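import Cfsg.Agent.Lib.SymPres.Core
import Cfsg.Agent.Lib.BoundedPres.On
import Cfsg.Agent.Lib.BoundedPres.Glue

/-!
Symmetric and alternating groups have presentations with at most seven relations.
-/

set_option autoImplicit false

namespace CfsgLib.SymPres

open Equiv
open CfsgLib.BoundedPres (Kills PresOn Pres hom_lift exists_word)
open CfsgLib.AltHall (ARel)

variable {L : ℕ} [NeZero L]

theorem map_tr {G G' : Type*} [Group G] [Group G'] (f : G →* G') (a x : G) (i : ℕ) :
    f (tr a x i) = tr (f a) (f x) i := by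
  simp [tr]

theorem tr_mem_of_supp {p : ℕ} [NeZero p] (h : 0 + p ≤ L) {G : Type*} [Group G] (f : G →* Perm (Pt L))
    {A X' : G} (hA : f A = aT h) (hX : f X' = X 0) {S : Finset ℕ} (hS : ∀ i ∈ S, i < p)
    {σ : Perm (Pt L)} (hσ : Supp S σ) :
    ∃ W ∈ Subgroup.closure (tr A X' '' (S : Set ℕ)), f W = σ := by
  have h1 := mem_closure_X (fun i hi => by have := hS i hi; omega) σ hσ
  have h2 : f '' (tr A X' '' (S : Set ℕ)) = X '' (S : Set ℕ) := by
    rw [Set.image_image]
    refine Set.image_congr fun i hi => ?_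
    rw [map_tr, hA, hX, tr, aT_pow_conj h (hS i hi)]
  rw [← h2, ← MonoidHom.map_closure] at h1
  exact h1

theorem sign_aT {p : ℕ} [Fact p.Prime] [NeZero p] (hp : p ≠ 2) (h : 0 + p ≤ L) :
    Perm.sign (aT h : Perm (Pt L)) = 1 := by
  rw [aT, sign_onWin, sign_addRight hp]

theorem sign_vT {p : ℕ} [Fact p.Prime] [NeZero p] (hp : p ≠ 2) (h : 0 + p ≤ L) :
    Perm.sign (vT h : Perm (Pt L)) = 1 := by
  have hne : (pt 0 : Pt L) ≠ pt (p - 1) := by
    have := (Fact.out : p.Prime).two_le
    rw [Ne, pt_inj (by omega) (by omega)]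
    omega
  rw [vT, map_mul, map_mul, sign_aT hp h, Perm.sign_swap hne, Perm.sign_swap P_ne_Q]
  rfl

/-- The images of the three generators. -/
noncomputable def gensT {p : ℕ} [NeZero p] (h : 0 + p ≤ L) (b : Bool) : Fin 3 → Perm (Pt L) :=
  ![aT h, cT L b, X 0]

theorem range_three {G : Type*} (f : Fin 3 → G) : Set.range f = {f 0, f 1, f 2} := by
  ext z
  constructor
  · rintro ⟨i, rfl⟩
    fin_cases i <;> simp
  · rintro (rfl | rfl | rfl)
    exacts [⟨0, rfl⟩, ⟨1, rfl⟩, ⟨2, rfl⟩]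

set_option maxHeartbeats 1000000 in
/-- The seven relations. -/
theorem exists_relations {p r : ℕ} [Fact p.Prime] [NeZero p] (hp3 : 3 ≤ p) (hpL : 0 + p ≤ L)
    (hLr : L + r ≤ 2 * p) {b : Bool}
    (hr : (r = 1 ∧ Perm.sign (cT L b) = 1) ∨ (r = 2 ∧ Perm.sign (cT L b) = -1)) :
    ∃ R : List (FreeGroup (Fin 3)), R.length = 7 ∧ Kills (gensT hpL b) R ∧
      ∀ (G : Type) [Group G] (φ : G →* Perm (Pt L)) (f : Fin 3 → G), (∀ i, φ (f i) = gensT hpL b i) →
        Subgroup.closure (Set.range f) = ⊤ → Kills f R → Function.Injective φ := by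
  classical
  have hp2 : p ≠ 2 := by omega
  obtain ⟨γ, hγ'⟩ := IsCyclic.exists_monoid_generator (α := (ZMod p)ˣ)
  have hγ : ∀ u : (ZMod p)ˣ, ∃ e : ℕ, γ ^ e = u := fun u => Submonoid.mem_powers_iff _ _ |>.1 (hγ' u)
  have hγ1 : γ ≠ 1 := by
    intro h
    obtain ⟨e, he⟩ := hγ (-1)
    rw [h, one_pow] at he
    have h2 : ((2 : ℕ) : ZMod p) = 0 := by
      have := congrArg (fun u : (ZMod p)ˣ => (u : ZMod p)) he
      simp only [Units.val_one, Units.val_neg] at this
      push_cast
      linear_combination this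
    rw [ZMod.natCast_eq_zero_iff] at h2
    exact absurd (Nat.le_of_dvd two_pos h2) (by omega)
  set s := (((γ : ZMod p) - 1)⁻¹).val with hsdef
  have hs : (s : ZMod p) * ((γ : ZMod p) - 1) = 1 := by
    rw [hsdef, ZMod.natCast_rightInverse]
    exact inv_mul_cancel₀ (sub_ne_zero.2 fun h => hγ1 (Units.ext h))
  let A : FreeGroup (Fin 3) := FreeGroup.of 0
  let C : FreeGroup (Fin 3) := FreeGroup.of 1
  let X' : FreeGroup (Fin 3) := FreeGroup.of 2
  let ψ : FreeGroup (Fin 3) →* Perm (Pt L) := FreeGroup.lift (gensT hpL b)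
  have hψA : ψ A = aT hpL := FreeGroup.lift_apply_of
  have hψC : ψ C = cT L b := FreeGroup.lift_apply_of
  have hψX : ψ X' = X 0 := FreeGroup.lift_apply_of
  have hsp : ∀ i ∈ Finset.range p, i < p := fun i hi => Finset.mem_range.1 hi
  have hsp1 : ∀ i ∈ Finset.range (p - 1), i < p := fun i hi => by rw [Finset.mem_range] at hi; omega
  -- the multiplication
  set μ : Perm (ZMod p) := Units.mulLeft γ
  set mT : Perm (Pt L) := onWin 0 hpL μ * Equiv.swap pP pQ with hmT
  have hmsupp : Supp (Finset.range p) mT := by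
    refine ⟨?_, fun i hi hiS => ?_⟩
    · rw [hmT, map_mul, sign_onWin, sign_mulLeft hp2 hγ hγ1, Perm.sign_swap P_ne_Q]; rfl
    · rw [hmT, Perm.mul_apply, Equiv.swap_apply_of_ne_of_ne (pt_ne_P i) (pt_ne_Q i),
        onWin_out hpL _ hi (Or.inr (by rw [Finset.mem_range] at hiS; omega))]
  obtain ⟨Wm, hWm, hψm⟩ := tr_mem_of_supp hpL ψ hψA hψX hsp hmsupp
  have hvsupp : Supp (Finset.range (p - 1)) (vT hpL : Perm (Pt L)) :=
    ⟨sign_vT hp2 hpL, fun i hi hiS => vT_fix hpL (by omega) (by rw [Finset.mem_range] at hiS; omega) hi⟩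
  obtain ⟨Wv, hWv, hψv⟩ := tr_mem_of_supp hpL ψ hψA hψX hsp1 hvsupp
  have hv'supp : Supp (Finset.range p) (cT L b * vT hpL * (cT L b)⁻¹) := by
    refine ⟨by rw [map_mul, map_mul, map_inv, sign_vT hp2 hpL, mul_one, mul_inv_cancel], fun i hi hiS => ?_⟩
    rw [Finset.mem_range] at hiS
    obtain ⟨k, rfl⟩ : ∃ k, i = k + 1 := ⟨i - 1, by omega⟩
    rw [Perm.mul_apply, Perm.mul_apply, cT_inv_pt, vT_fix hpL (by omega) (by omega) (by omega), cT_pt]
  obtain ⟨Wv', hWv', hψv'⟩ := tr_mem_of_supp hpL ψ hψA hψX hsp hv'supp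
  have hwsupp : Supp (Finset.range p) (onWin 0 hpL (Equiv.addRight (r : ZMod p)) : Perm (Pt L)) :=
    ⟨by rw [sign_onWin, sign_addRight hp2],
      fun i hi hiS => onWin_out hpL _ hi (Or.inr (by rw [Finset.mem_range] at hiS; omega))⟩
  obtain ⟨W0, hW0, hψ0⟩ := tr_mem_of_supp hpL ψ hψA hψX hsp hwsupp
  set q := L - p with hq
  have hjsupp : Supp (Finset.range p) (cT L b ^ r * (wT hpL b r)⁻¹) := by
    refine ⟨?_, fun l hl hlS => ?_⟩
    · have hw : Perm.sign (wT hpL b r) = 1 := by
        rw [wT, map_mul, map_mul, map_inv, sign_onWin, sign_addRight hp2, mul_one, mul_inv_cancel]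
      rw [map_mul, map_inv, map_pow, hw, inv_one, mul_one]
      rcases hr with ⟨rfl, h⟩ | ⟨rfl, h⟩ <;> rw [h] <;> rfl
    · rw [Finset.mem_range] at hlS
      have hr2 : 1 ≤ r ∧ r ≤ 2 := by rcases hr with ⟨h, -⟩ | ⟨h, -⟩ <;> omega
      have e1 : wT hpL b r (pt (l - r)) = (pt l : Pt L) := by
        have e0 : (cT L b ^ (L - p))⁻¹ (pt (l - r)) = pt (l - r - (L - p)) := by
          rw [Perm.inv_eq_iff_eq, cT_pow_pt, Nat.sub_add_cancel (by omega)]
        rw [wT, Perm.mul_apply, Perm.mul_apply, e0, onWin_pt hpL _ (Nat.zero_le _) (by omega),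
          cT_pow_pt, Nat.sub_zero, Equiv.coe_addRight]
        simp only [← Nat.cast_add, ZMod.val_natCast, Nat.zero_add]
        rw [Nat.mod_eq_of_lt (by omega)]
        congr 1
        omega
      rw [Perm.mul_apply, show (wT hpL b r)⁻¹ (pt l : Pt L) = pt (l - r) by rw [Perm.inv_eq_iff_eq, e1],
        cT_pow_pt, Nat.sub_add_cancel (by omega)]
  obtain ⟨Wj, hWj, hψj⟩ := tr_mem_of_supp hpL ψ hψA hψX hsp hjsupp
  refine ⟨[A ^ p * (Wm ^ (p - 1))⁻¹, Wm * A ^ s * Wm⁻¹ * (A ^ (s + 1))⁻¹, Wm * X' * Wm⁻¹ * (X' ^ 2)⁻¹,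
      X' ^ 3 * ((X' * (A * X' * A⁻¹)) ^ 2)⁻¹, C * X' * C⁻¹ * ((A * X' * A⁻¹) ^ eps b)⁻¹,
      C * Wv * C⁻¹ * Wv'⁻¹, C ^ r * (Wj * (C ^ q * W0 * (C ^ q)⁻¹))⁻¹], rfl, ?_, ?_⟩
  · have hP : ∀ z : Fin 2, onWin 0 hpL μ (Sum.inr z : Pt L) = Sum.inr z := fun z => onWin_inr hpL μ z
    have hcomm : ∀ σ : Perm (ZMod p), Commute (onWin 0 hpL σ : Perm (Pt L)) (Equiv.swap pP pQ) := by
      intro σ
      refine Perm.Disjoint.commute fun z => ?_
      rcases pt_cases z with ⟨i, hi, rfl⟩ | rfl | rfl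
      · exact Or.inr (Equiv.swap_apply_of_ne_of_ne (pt_ne_P i) (pt_ne_Q i))
      · exact Or.inl (onWin_inr hpL σ 0)
      · exact Or.inl (onWin_inr hpL σ 1)
    have haTp : ∀ k : ℕ, aT hpL ^ k = (onWin 0 hpL (Equiv.addRight (k : ZMod p)) : Perm (Pt L)) := by
      intro k
      rw [aT, ← onWin_pow, addRight_pow, mul_one]
    have hone : (onWin 0 hpL (1 : Perm (ZMod p)) : Perm (Pt L)) = 1 :=
      map_one (Perm.viaEmbeddingHom (win 0 hpL))
    intro w hw
    show ψ w = 1
    simp only [List.mem_cons, List.not_mem_nil, or_false] at hw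
    rcases hw with rfl | rfl | rfl | rfl | rfl | rfl | rfl
    · rw [map_mul, map_inv, map_pow, map_pow, hψA, hψm, mul_inv_eq_one, haTp, hmT, (hcomm μ).mul_pow,
        ← onWin_pow]
      have hμ : μ ^ (p - 1) = 1 := by
        have : ∀ n : ℕ, μ ^ n = Units.mulLeft (γ ^ n) := by
          intro n
          induction n with
          | zero => ext z; simp
          | succ n ih => ext z; rw [pow_succ', Perm.mul_apply, ih]; simp [μ, pow_succ', mul_assoc]
        rw [this, ZMod.units_pow_card_sub_one_eq_one p γ]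
        ext z; simp
      obtain ⟨k, hk⟩ := ((Fact.out : p.Prime).odd_of_ne_two hp2).tsub_odd odd_one
      rw [hμ, hone, one_mul, hk, ← two_mul, pow_mul, pow_two, Equiv.swap_mul_self, one_pow,
        show ((p : ℕ) : ZMod p) = 0 from ZMod.natCast_self p,
        show Equiv.addRight (0 : ZMod p) = (1 : Perm (ZMod p)) by ext z; simp, hone]
    · rw [map_mul, map_inv, map_mul, map_mul, map_inv, map_pow, map_pow, hψA, hψm, mul_inv_eq_one,
        mul_inv_eq_iff_eq_mul, haTp, haTp, hmT, ← mul_assoc, mul_assoc (onWin 0 hpL μ),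
        ← (hcomm _).eq, ← mul_assoc, ← onWin_mul, ← onWin_mul]
      congr 2
      ext z
      simp only [μ, Perm.mul_apply, Equiv.coe_addRight, Units.mulLeft_apply]
      push_cast
      linear_combination hs
    · rw [map_mul, map_inv, map_mul, map_mul, map_inv, map_pow, hψX, hψm, mul_inv_eq_one]
      rw [show (X 0 : Perm (Pt L)) ^ 2 = (X 0)⁻¹ from eq_inv_of_mul_eq_one_left (by
        rw [← pow_succ]; exact X_cube 0)]
      refine X_conj_swap _ ?_ ?_ ?_
      · rw [hmT, Perm.mul_apply, Equiv.swap_apply_of_ne_of_ne (pt_ne_P 0) (pt_ne_Q 0),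
          onWin_pt hpL _ le_rfl (by omega)]
        simp [μ]
      · rw [hmT, Perm.mul_apply, Equiv.swap_apply_left]; exact hP 1
      · rw [hmT, Perm.mul_apply, Equiv.swap_apply_right]; exact hP 0
    · rw [map_mul, map_inv, map_pow, map_pow, map_mul, map_mul, map_mul, map_inv, hψX, hψA, mul_inv_eq_one]
      have e := aT_pow_conj hpL (i := 1) (by omega)
      rw [pow_one] at e
      rw [e, X_cube, X_pair (by rw [Ne, pt_inj (by omega) (by omega)]; omega)]
    · rw [map_mul, map_inv, map_mul, map_mul, map_inv, map_zpow, map_mul, map_mul, map_inv, hψX, hψA,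
        hψC, mul_inv_eq_one]
      have e := aT_pow_conj hpL (i := 1) (by omega)
      rw [pow_one] at e
      rw [e, cT_conj_X]
    · rw [map_mul, map_inv, map_mul, map_mul, map_inv, hψC, hψv, hψv', mul_inv_eq_one]
    · rw [map_mul, map_inv, map_pow, map_mul, map_mul, map_mul, map_inv, map_pow, hψC, hψj, hψ0,
        mul_inv_eq_one]
      show cT L b ^ r = cT L b ^ r * (wT hpL b r)⁻¹ * wT hpL b r
      rw [inv_mul_cancel_right]
  · intro G _ φ f hφ hgen hk
    let F : FreeGroup (Fin 3) →* G := FreeGroup.lift f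
    have hcomp : φ.comp F = ψ := FreeGroup.ext_hom _ _ fun i => by simp [F, ψ, hφ i]
    have hmemG : ∀ {S : Finset ℕ} {W : FreeGroup (Fin 3)},
        W ∈ Subgroup.closure (tr A X' '' (S : Set ℕ)) →
          F W ∈ Subgroup.closure (tr (f 0) (f 2) '' (S : Set ℕ)) := by
      intro S W hW
      have := Subgroup.mem_map_of_mem F hW
      rw [MonoidHom.map_closure, Set.image_image] at this
      refine Subgroup.closure_mono ?_ this
      rintro _ ⟨i, hi, rfl⟩
      exact ⟨i, hi, by simp [map_tr, F, A, X']⟩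
    have hrel : ∀ w w' : FreeGroup (Fin 3), F (w * w'⁻¹) = 1 → F w = F w' := fun w w' h => by
      rwa [map_mul, map_inv, mul_inv_eq_one] at h
    have k1 := hrel _ _ (hk _ (List.mem_cons_self ..))
    have k2 := hrel _ _ (hk (Wm * A ^ s * Wm⁻¹ * (A ^ (s + 1))⁻¹) (by simp))
    have k3 := hrel _ _ (hk (Wm * X' * Wm⁻¹ * (X' ^ 2)⁻¹) (by simp))
    have k4 := hrel _ _ (hk (X' ^ 3 * ((X' * (A * X' * A⁻¹)) ^ 2)⁻¹) (by simp))
    have k5 := hrel _ _ (hk (C * X' * C⁻¹ * ((A * X' * A⁻¹) ^ eps b)⁻¹) (by simp))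
    have k6 := hrel _ _ (hk (C * Wv * C⁻¹ * Wv'⁻¹) (by simp))
    have k7 := hrel _ _ (hk (C ^ r * (Wj * (C ^ q * W0 * (C ^ q)⁻¹))⁻¹) (by simp))
    simp only [map_mul, map_inv, map_pow, map_zpow] at k1 k2 k3 k4 k5 k6 k7
    have fA : F A = f 0 := FreeGroup.lift_apply_of
    have fC : F C = f 1 := FreeGroup.lift_apply_of
    have fX : F X' = f 2 := FreeGroup.lift_apply_of
    rw [fA] at k1 k2 k4 k5
    rw [fX] at k3 k4 k5
    rw [fC] at k5 k6 k7
    refine core_injective hγ hγ1 hs hp3 hpL hLr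
      (by rcases hr with ⟨h, -⟩ | h; exacts [Or.inl h, Or.inr h]) φ
      (hφ 0) (hφ 1) (hφ 2) (by rw [← hgen, range_three]) (hmemG hWm) (hmemG hWv)
      ((DFunLike.congr_fun hcomp Wv).trans hψv) (hmemG hWv') (hmemG hWj) (hmemG hW0)
      ((DFunLike.congr_fun hcomp W0).trans hψ0) k1 k2 k3 k4 k5 k6 k7

theorem X_mem_closure (b : Bool) : ∀ i, (X i : Perm (Pt L)) ∈ Subgroup.closure {cT L b, X 0} := by
  intro i
  induction i with
  | zero => exact Subgroup.subset_closure (by simp)
  | succ i ih =>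
    have hc : cT L b ∈ Subgroup.closure ({cT L b, X 0} : Set (Perm (Pt L))) :=
      Subgroup.subset_closure (by simp)
    have : X (i + 1) = (cT L b * X i * (cT L b)⁻¹ : Perm (Pt L)) ^ eps b := by
      rw [cT_conj_X, ← zpow_mul, eps_mul_self, zpow_one]
    rw [this]
    exact zpow_mem (mul_mem (mul_mem hc ih) (inv_mem hc)) _

theorem even_mem_closure (b : Bool) {σ : Perm (Pt L)} (h : Perm.sign σ = 1) :
    σ ∈ Subgroup.closure {cT L b, X 0} := by
  have h1 := mem_closure_X (S := Finset.range L) (fun i hi => Finset.mem_range.1 hi) σ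
    ⟨h, fun i hi hi' => absurd (Finset.mem_range.2 hi) hi'⟩
  refine (Subgroup.closure_le _).2 ?_ h1
  rintro _ ⟨i, -, rfl⟩
  exact X_mem_closure b i

theorem exists_prime_window {L : ℕ} (hL : 3 ≤ L) : ∃ p, p.Prime ∧ 3 ≤ p ∧ p ≤ L ∧ L + 2 ≤ 2 * p := by
  obtain ⟨p, hp, h1, h2⟩ := Nat.exists_prime_lt_and_le_two_mul ((L + 1) / 2) (by omega)
  refine ⟨p, hp, by omega, ?_, by omega⟩
  by_contra h
  obtain ⟨k, hk⟩ := hp.odd_of_ne_two (by omega)
  omega

theorem sign_cT_even {b : Bool} (hb : b = decide (L % 2 = 0)) : Perm.sign (cT L b) = 1 := by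
  have hL : L ≠ 0 := NeZero.ne L
  rw [sign_cT]
  rcases Nat.mod_two_eq_zero_or_one L with h | h
  · rw [Odd.neg_one_pow (Nat.odd_iff.2 (by omega)), hb, decide_eq_true h]; rfl
  · rw [Even.neg_one_pow (Nat.even_iff.2 (by omega)), hb, decide_eq_false (by omega)]; rfl

theorem sign_cT_odd {b : Bool} (hb : b = decide (L % 2 = 1)) : Perm.sign (cT L b) = -1 := by
  have hL : L ≠ 0 := NeZero.ne L
  rw [sign_cT]
  rcases Nat.mod_two_eq_zero_or_one L with h | h
  · rw [Odd.neg_one_pow (Nat.odd_iff.2 (by omega)), hb, decide_eq_false (by omega)]; rfl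
  · rw [Even.neg_one_pow (Nat.even_iff.2 (by omega)), hb, decide_eq_true h]; rfl

/-- Superfluous generators may be dropped at no cost. -/
theorem presOn_drop {X Y : Type} {T : Type*} [Group T] (ι : Y → X) (hι : Function.Injective ι)
    (v : X → T) (L : List (FreeGroup X)) (hv : Kills v L)
    (huniv : ∀ (G : Type) [Group G] (f : X → G), Kills f L → ∃ ψ : T →* G, ∀ x, ψ (v x) = f x)
    (hgen' : Subgroup.closure (Set.range (v ∘ ι)) = ⊤) :
    ∃ (w : Y → T) (L' : List (FreeGroup Y)), L'.length ≤ L.length ∧ Kills w L' ∧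
      Subgroup.closure (Set.range w) = ⊤ ∧
      ∀ (G : Type) [Group G] (f : Y → G), Kills f L' → ∃ ψ : T →* G, ∀ y, ψ (w y) = f y := by
  classical
  choose w hw using fun x => exists_word hgen' (v x)
  let σ : X → FreeGroup Y := fun x => if hx : ∃ y, ι y = x then FreeGroup.of hx.choose else w x
  have hσι : ∀ y, σ (ι y) = FreeGroup.of y := fun y => by
    have hx : ∃ y', ι y' = ι y := ⟨y, rfl⟩
    simp only [σ, dif_pos hx]
    rw [hι hx.choose_spec]
  have hσ : ∀ x, FreeGroup.lift (v ∘ ι) (σ x) = v x := fun x => by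
    by_cases hx : ∃ y, ι y = x
    · simp only [σ, dif_pos hx, FreeGroup.lift_apply_of, Function.comp_apply, hx.choose_spec]
    · simp only [σ, dif_neg hx, hw]
  refine ⟨v ∘ ι, L.map (FreeGroup.lift σ), by simp, fun z hz => ?_, hgen', fun G _ f hf => ?_⟩
  · obtain ⟨u, hu, rfl⟩ := List.mem_map.1 hz
    rw [hom_lift (FreeGroup.lift (v ∘ ι)) hσ]
    exact hv u hu
  · obtain ⟨ψ, hψ⟩ := huniv G (fun x => FreeGroup.lift f (σ x)) fun u hu => by
      rw [← hom_lift (FreeGroup.lift f) (v := σ) (fun _ => rfl)]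
      exact hf _ (List.mem_map_of_mem hu)
    exact ⟨ψ, fun y => by rw [Function.comp_apply, hψ, hσι, FreeGroup.lift_apply_of]⟩

theorem presOn_congr {X : Type} {T T' : Type*} [Group T] [Group T'] {r : ℕ} (h : PresOn X T r)
    (e : T ≃* T') : PresOn X T' r := by
  obtain ⟨rels, hc, ⟨i⟩⟩ := h.exists_iso
  exact PresOn.of_iso rels hc (i.trans e)

/-- Both forms of the presentation for a group embedded in the symmetric group. -/
theorem presentations {p r : ℕ} [Fact p.Prime] [NeZero p] (hp3 : 3 ≤ p) (hpL : 0 + p ≤ L)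
    (hLr : L + r ≤ 2 * p) {b : Bool}
    (hr : (r = 1 ∧ Perm.sign (cT L b) = 1) ∨ (r = 2 ∧ Perm.sign (cT L b) = -1))
    {T : Type} [Group T] [Finite T] (ι : T →* Perm (Pt L)) (hι : Function.Injective ι) (v : Fin 3 → T)
    (hv : ∀ i, ι (v i) = gensT hpL b i) (hgen : Subgroup.closure ({v 1, v 2} : Set T) = ⊤) :
    PresOn (Fin 3) T 7 ∧ PresOn (Fin 2) T 7 := by
  obtain ⟨R, hlen, hT, huniv⟩ := exists_relations hp3 hpL hLr hr
  have hkv : Kills v R := fun w hw => hι (by rw [map_one, hom_lift ι hv w]; exact hT w hw)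
  have hg3 : Subgroup.closure (Set.range v) = ⊤ := by
    rw [eq_top_iff, ← hgen]
    exact Subgroup.closure_mono (by rintro _ (rfl | rfl) <;> exact ⟨_, rfl⟩)
  set Rs : Set (FreeGroup (Fin 3)) := {w | w ∈ R} with hRs
  have hu : ∀ (G : Type) [Group G] (f : Fin 3 → G), Kills f R → ∃ ψ : T →* G, ∀ x, ψ (v x) = f x := by
    intro G _ f hf
    let φ₀ : PresentedGroup Rs →* T := PresentedGroup.toGroup (f := v) fun w hw => hkv w hw
    have hφ₀ : ∀ x, φ₀ (PresentedGroup.of x) = v x := fun x => PresentedGroup.toGroup.of _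
    have hk : Kills (fun x => (PresentedGroup.of x : PresentedGroup Rs)) R := by
      intro w hw
      have he : FreeGroup.lift (fun x => (PresentedGroup.of x : PresentedGroup Rs)) =
          PresentedGroup.mk _ := FreeGroup.ext_hom _ _ fun i => by simp [PresentedGroup.of]
      rw [he]
      exact PresentedGroup.one_of_mem hw
    have hinj : Function.Injective φ₀ := Function.Injective.of_comp
      (huniv _ (ι.comp φ₀) _ (fun i => by simp [hφ₀, hv]) (PresentedGroup.closure_range_of _) hk)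
    have hsurj : Function.Surjective φ₀ := by
      rw [← MonoidHom.range_eq_top, eq_top_iff, ← hg3, Subgroup.closure_le]
      rintro _ ⟨x, rfl⟩
      exact ⟨_, hφ₀ x⟩
    let e := MulEquiv.ofBijective φ₀ ⟨hinj, hsurj⟩
    refine ⟨(PresentedGroup.toGroup (f := f) (rels := Rs) fun w hw => hf w hw).comp e.symm.toMonoidHom,
      fun x => ?_⟩
    have h1 : e.symm (v x) = PresentedGroup.of x := by rw [e.symm_apply_eq]; exact (hφ₀ x).symm
    simp only [MonoidHom.comp_apply, MulEquiv.coe_toMonoidHom, h1]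
    exact PresentedGroup.toGroup.of _
  have hP : PresOn (Fin 3) T 7 := ⟨v, R, hlen.le, hkv, hg3, hu⟩
  refine ⟨hP, ?_⟩
  obtain ⟨u, L3, hl3, hk3, hg, hu3⟩ := presOn_drop ![(1 : Fin 3), 2]
    (by intro i k; fin_cases i <;> fin_cases k <;> simp) v R hkv hu
    (by rw [Set.range_comp, Matrix.range_cons_cons_empty, Set.image_pair]; exact hgen)
  exact ⟨u, L3, hl3.trans hlen.le, hk3, hg, hu3⟩

theorem sym_presentations {n : ℕ} (hn : 5 ≤ n) :
    PresOn (Fin 3) (Perm (Fin n)) 7 ∧ PresOn (Fin 2) (Perm (Fin n)) 7 := by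
  obtain ⟨L, rfl⟩ : ∃ L, n = L + 2 := ⟨n - 2, by omega⟩
  have : NeZero L := ⟨by omega⟩
  obtain ⟨p, hp, hp3, hpL, hL⟩ := exists_prime_window (L := L) (by omega)
  have := Fact.mk hp
  have : NeZero p := ⟨hp.ne_zero⟩
  set b := decide (L % 2 = 1) with hb
  have hs := sign_cT_odd hb
  have hgen : Subgroup.closure ({cT L b, X 0} : Set (Perm (Pt L))) = ⊤ := by
    rw [eq_top_iff]
    intro σ _
    rcases Int.units_eq_one_or (Perm.sign σ) with h | h
    · exact even_mem_closure b h
    · have h1 : (cT L b)⁻¹ * σ ∈ Subgroup.closure ({cT L b, X 0} : Set (Perm (Pt L))) :=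
        even_mem_closure b (by rw [map_mul, map_inv, hs, h]; rfl)
      have := mul_mem (Subgroup.subset_closure (Set.mem_insert (cT L b) _)) h1
      rwa [mul_inv_cancel_left] at this
  obtain ⟨h3, h2⟩ := presentations hp3 (by omega) hL (Or.inr ⟨rfl, hs⟩) (MonoidHom.id _)
    Function.injective_id (gensT (by omega) b) (fun i => rfl) hgen
  exact ⟨presOn_congr h3 finSumFinEquiv.permCongrHom, presOn_congr h2 finSumFinEquiv.permCongrHom⟩

theorem alt_presentations {n : ℕ} (hn : 5 ≤ n) :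
    PresOn (Fin 3) (alternatingGroup (Fin n)) 7 ∧ PresOn (Fin 2) (alternatingGroup (Fin n)) 7 := by
  obtain ⟨L, rfl⟩ : ∃ L, n = L + 2 := ⟨n - 2, by omega⟩
  have : NeZero L := ⟨by omega⟩
  obtain ⟨p, hp, hp3, hpL, hL⟩ := exists_prime_window (L := L) (by omega)
  have := Fact.mk hp
  have : NeZero p := ⟨hp.ne_zero⟩
  set b := decide (L % 2 = 0) with hb
  have hs := sign_cT_even hb
  have hp0 : 0 + p ≤ L := by omega
  let v : Fin 3 → alternatingGroup (Pt L) := ![⟨aT hp0, sign_aT (by omega) hp0⟩, ⟨cT L b, hs⟩,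
    ⟨X 0, sign_X 0⟩]
  have hgen : Subgroup.closure ({v 1, v 2} : Set (alternatingGroup (Pt L))) = ⊤ := by
    rw [eq_top_iff]
    rintro ⟨σ, hσ⟩ -
    have h1 : σ ∈ (Subgroup.closure ({v 1, v 2} : Set (alternatingGroup (Pt L)))).map
        (alternatingGroup (Pt L)).subtype := by
      rw [MonoidHom.map_closure, Set.image_pair]
      exact even_mem_closure b hσ
    obtain ⟨τ, hτ, e⟩ := h1
    rwa [show (⟨σ, hσ⟩ : alternatingGroup (Pt L)) = τ from Subtype.ext e.symm]
  obtain ⟨h3, h2⟩ := presentations (r := 1) hp3 hp0 (by omega) (Or.inl ⟨rfl, hs⟩)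
    (alternatingGroup (Pt L)).subtype Subtype.coe_injective v (fun i => by fin_cases i <;> rfl) hgen
  exact ⟨presOn_congr h3 finSumFinEquiv.altCongrHom, presOn_congr h2 finSumFinEquiv.altCongrHom⟩

/-- A cyclic group. -/
theorem presOn_cyclic {T : Type*} [Group T] [Finite T] (g : T) (hg : Subgroup.zpowers g = ⊤) :
    PresOn (Fin 2) T 2 := by
  refine PresOn.of_bound ![g, 1] [FreeGroup.of 0 ^ Nat.card T, FreeGroup.of 1] ?_ ?_ ?_
  · intro w hw
    simp only [List.mem_cons, List.not_mem_nil, or_false] at hw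
    rcases hw with rfl | rfl <;> simp
  · rw [eq_top_iff, ← hg, Subgroup.zpowers_eq_closure]
    exact Subgroup.closure_mono (by rintro _ rfl; exact ⟨0, rfl⟩)
  · intro G _ φ f _ hgen hk
    have h1 : f 1 = 1 := by simpa using hk (FreeGroup.of 1) (by simp)
    have h0 : f 0 ^ Nat.card T = 1 := by simpa using hk (FreeGroup.of 0 ^ Nat.card T) (by simp)
    have htop : Subgroup.zpowers (f 0) = ⊤ := by
      rw [eq_top_iff, ← hgen, Subgroup.closure_le]
      rintro _ ⟨i, rfl⟩
      fin_cases i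
      · exact Subgroup.mem_zpowers _
      · simp [h1]
    have hfin : IsOfFinOrder (f 0) := isOfFinOrder_iff_pow_eq_one.2 ⟨_, Nat.card_pos, h0⟩
    have hc : Nat.card G = orderOf (f 0) := by
      rw [← Nat.card_zpowers, htop, Subgroup.card_top]
    refine ⟨Nat.finite_of_card_ne_zero (hc ▸ hfin.orderOf_pos.ne'), hc ▸ ?_⟩
    exact Nat.le_of_dvd Nat.card_pos (orderOf_dvd_of_pow_eq_one h0)

/-- The alternating group of degree four. -/
theorem presOn_alt_four : PresOn (Fin 2) (alternatingGroup (Fin 4)) 3 := by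
  refine presOn_congr (T := alternatingGroup (Pt 2)) ?_ finSumFinEquiv.altCongrHom
  let v : Fin 2 → alternatingGroup (Pt 2) := fun i => ⟨X (i : ℕ), sign_X _⟩
  let R : List (FreeGroup (Fin 2)) :=
    [FreeGroup.of 0 ^ 3, FreeGroup.of 1 ^ 3, (FreeGroup.of 0 * FreeGroup.of 1) ^ 2]
  show PresOn (Fin 2) _ R.length
  refine PresOn.of_bound v R ?_ ?_ ?_
  · intro w hw
    simp only [R, List.mem_cons, List.not_mem_nil, or_false] at hw
    rcases hw with rfl | rfl | rfl <;>
      · apply Subtype.ext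
        simp [v, X_cube, X_pair (L := 2) (i := 0) (k := 1) (by simp [pt])]
  · rw [eq_top_iff]
    rintro ⟨σ, hσ⟩ -
    have h1 := mem_closure_X (S := Finset.range 2) (fun i hi => Finset.mem_range.1 hi) σ
      ⟨hσ, fun i hi hi' => absurd (Finset.mem_range.2 hi) hi'⟩
    have h2 : Subgroup.closure (X '' (Finset.range 2 : Set ℕ)) ≤
        (Subgroup.closure (Set.range v)).map (alternatingGroup (Pt 2)).subtype := by
      rw [Subgroup.closure_le]
      rintro _ ⟨i, hi, rfl⟩
      simp only [Finset.coe_range, Set.mem_Iio] at hi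
      exact ⟨v ⟨i, hi⟩, Subgroup.subset_closure ⟨_, rfl⟩, rfl⟩
    obtain ⟨τ, hτ, e⟩ := h2 h1
    rwa [show (⟨σ, hσ⟩ : alternatingGroup (Pt 2)) = τ from Subtype.ext e.symm]
  · intro G _ φ f hf hgen hk
    let y : ℕ → G := fun i => f (Fin.ofNat 2 i)
    have k1 : f 0 ^ 3 = 1 := by
      have := hk (FreeGroup.of 0 ^ 3) (by simp [R])
      simpa only [map_pow, map_mul, FreeGroup.lift_apply_of] using this
    have k2 : f 1 ^ 3 = 1 := by
      have := hk (FreeGroup.of 1 ^ 3) (by simp [R])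
      simpa only [map_pow, map_mul, FreeGroup.lift_apply_of] using this
    have k3 : (f 0 * f 1) ^ 2 = 1 := by
      have := hk ((FreeGroup.of 0 * FreeGroup.of 1) ^ 2) (by simp [R])
      simpa only [map_pow, map_mul, FreeGroup.lift_apply_of] using this
    have hC : CRel y (Finset.range 2) := by
      refine ⟨fun i hi => ?_, fun i hi k hk' hne => ?_⟩
      · rw [Finset.mem_range] at hi
        interval_cases i <;> assumption
      · rw [Finset.mem_range] at hi hk'
        interval_cases i <;> interval_cases k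
        exacts [absurd rfl hne, k3, pair_comm k3, absurd rfl hne]
    have hinj : Function.Injective φ := by
      rw [injective_iff_map_eq_one]
      intro g hg
      refine CRel.injOn ((alternatingGroup (Pt 2)).subtype.comp φ)
        (fun i hi => Finset.mem_range.1 hi) hC ?_ g ?_ (by simp [hg])
      · intro i hi
        rw [Finset.mem_range] at hi
        interval_cases i <;> simp [y, hf, v]
      · have : g ∈ Subgroup.closure (Set.range f) := hgen ▸ Subgroup.mem_top g
        refine Subgroup.closure_mono ?_ this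
        rintro _ ⟨i, rfl⟩
        exact ⟨i, by simpa using i.2, by simp [y]⟩
    exact ⟨Finite.of_injective φ hinj, Nat.card_le_card_of_injective φ hinj⟩

/-- The symmetric group of degree four. -/
theorem pres_sym_four : Pres (Perm (Fin 4)) 6 := by
  let s : Fin 3 → Perm (Fin 4) := fun i => Equiv.swap i.castSucc i.succ
  let R : List (FreeGroup (Fin 3)) :=
    [FreeGroup.of 0 * FreeGroup.of 0, FreeGroup.of 1 * FreeGroup.of 1, FreeGroup.of 2 * FreeGroup.of 2,
      (FreeGroup.of 0 * FreeGroup.of 1) ^ 3, (FreeGroup.of 1 * FreeGroup.of 2) ^ 3,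
      (FreeGroup.of 0 * FreeGroup.of 2) ^ 2]
  show Pres _ R.length
  refine Pres.of_bound s R ?_ ?_ ?_
  · intro w hw
    simp only [R, List.mem_cons, List.not_mem_nil, or_false] at hw
    rcases hw with rfl | rfl | rfl | rfl | rfl | rfl <;>
      simp only [map_pow, map_mul, FreeGroup.lift_apply_of, s] <;> decide
  · exact CfsgLib.BoundedPres.perm_eq_top_of_adjacent _ fun i => Subgroup.subset_closure ⟨i, rfl⟩
  · intro G _ f hgen hk
    have k : ∀ w ∈ R, FreeGroup.lift f w = 1 := hk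
    have a0 : f 0 * f 0 = 1 := by
      have := k (FreeGroup.of 0 * FreeGroup.of 0) (by simp [R])
      simpa only [map_pow, map_mul, FreeGroup.lift_apply_of] using this
    have a1 : f 1 * f 1 = 1 := by
      have := k (FreeGroup.of 1 * FreeGroup.of 1) (by simp [R])
      simpa only [map_pow, map_mul, FreeGroup.lift_apply_of] using this
    have a2 : f 2 * f 2 = 1 := by
      have := k (FreeGroup.of 2 * FreeGroup.of 2) (by simp [R])
      simpa only [map_pow, map_mul, FreeGroup.lift_apply_of] using this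
    have b01 : (f 0 * f 1) ^ 3 = 1 := by
      have := k ((FreeGroup.of 0 * FreeGroup.of 1) ^ 3) (by simp [R])
      simpa only [map_pow, map_mul, FreeGroup.lift_apply_of] using this
    have b12 : (f 1 * f 2) ^ 3 = 1 := by
      have := k ((FreeGroup.of 1 * FreeGroup.of 2) ^ 3) (by simp [R])
      simpa only [map_pow, map_mul, FreeGroup.lift_apply_of] using this
    have b02 : (f 0 * f 2) ^ 2 = 1 := by
      have := k ((FreeGroup.of 0 * FreeGroup.of 2) ^ 2) (by simp [R])
      simpa only [map_pow, map_mul, FreeGroup.lift_apply_of] using this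
    let F : ℕ → G := fun i => f (Fin.ofNat 3 i)
    have hA : ARel F 3 := by
      refine ⟨fun i hi => ?_, fun i k hk' hik => ?_, fun i hi => ?_⟩
      · interval_cases i <;> assumption
      · obtain ⟨rfl, rfl⟩ : i = 0 ∧ k = 2 := ⟨by omega, by omega⟩
        exact (CfsgLib.BoundedPres.commute_of_sq a0 a2 b02).eq
      · obtain rfl | rfl : i = 0 ∨ i = 1 := by omega
        · exact CfsgLib.BoundedPres.braid_cube a0 a1 b01
        · exact CfsgLib.BoundedPres.braid_cube a1 a2 b12
    obtain ⟨π, hπ⟩ := CfsgLib.BoundedPres.perm_hom_of_aRel hA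
    have hsurj : Function.Surjective π := by
      rw [← MonoidHom.range_eq_top, eq_top_iff, ← hgen, Subgroup.closure_le]
      rintro _ ⟨i, rfl⟩
      exact ⟨s i, (hπ i).trans (by simp [F])⟩
    exact ⟨Finite.of_surjective π hsurj, Nat.card_le_card_of_surjective π hsurj⟩

/-- A presentation on a prescribed generating pair. -/
theorem two_generators_map {T : Type*} [Group T] {r : ℕ} (h : Pres T r) (a b : T)
    (hab : Subgroup.closure ({a, b} : Set T) = ⊤) :
    ∃ rels : Finset (FreeGroup (Fin 2)), rels.card ≤ r + 2 ∧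
      ∃ e : PresentedGroup (↑rels : Set (FreeGroup (Fin 2))) ≃* T,
        e (PresentedGroup.of 0) = a ∧ e (PresentedGroup.of 1) = b := by
  classical
  obtain ⟨X, v, L, hlen, hv, hgen, huniv⟩ := h
  have hrange : Subgroup.closure (Set.range ![a, b]) = ⊤ := by
    rw [Matrix.range_cons_cons_empty]; exact hab
  choose w hw using fun x => exists_word hrange (v x)
  obtain ⟨A, hA⟩ := exists_word hgen a
  obtain ⟨B, hB⟩ := exists_word hgen b
  let σ := FreeGroup.lift w
  let L2 := L.map σ ++ [σ A * (FreeGroup.of 0)⁻¹, σ B * (FreeGroup.of 1)⁻¹]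
  refine ⟨L2.toFinset, L2.toFinset_card_le.trans (by simp [L2]; omega), ?_⟩
  set R : Set (FreeGroup (Fin 2)) := ↑L2.toFinset with hR
  have hσ : ∀ z, FreeGroup.lift ![a, b] (σ z) = FreeGroup.lift v z := hom_lift _ (v := w) hw
  have hkill : ∀ z ∈ R, FreeGroup.lift ![a, b] z = 1 := by
    intro z hz
    rw [hR, List.coe_toFinset] at hz
    rcases List.mem_append.1 hz with hz | hz
    · obtain ⟨y, hy, rfl⟩ := List.mem_map.1 hz
      rw [hσ]; exact hv y hy
    · simp only [List.mem_cons, List.not_mem_nil, or_false] at hz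
      rcases hz with rfl | rfl <;> simp [hσ, hA, hB]
  let φ : PresentedGroup R →* T := PresentedGroup.toGroup hkill
  have hmem : ∀ z ∈ L2, PresentedGroup.mk R z = 1 := fun z hz =>
    PresentedGroup.one_of_mem (by rw [hR, List.coe_toFinset]; exact hz)
  obtain ⟨ψ, hψ⟩ := huniv (PresentedGroup R) (fun x => PresentedGroup.mk R (w x)) fun z hz => by
    rw [← hom_lift (PresentedGroup.mk R) (v := w) (fun _ => rfl)]
    exact hmem _ (List.mem_append_left _ (List.mem_map_of_mem hz))
  have hmkw : ∀ z, ψ (FreeGroup.lift v z) = PresentedGroup.mk R (σ z) := fun z => by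
    rw [hom_lift ψ hψ]; exact (hom_lift (PresentedGroup.mk R) (v := w) (fun _ => rfl) z).symm
  have hφmk : ∀ z, φ (PresentedGroup.mk R z) = FreeGroup.lift ![a, b] z := fun z => rfl
  have h1 : φ.comp ψ = MonoidHom.id T := by
    refine MonoidHom.eq_of_eqOn_dense hgen ?_
    rintro _ ⟨x, rfl⟩
    show φ (ψ (v x)) = v x
    rw [hψ, hφmk, hw]
  have h2 : ψ.comp φ = MonoidHom.id _ := by
    refine PresentedGroup.ext fun i => ?_
    show ψ (φ (PresentedGroup.of i)) = PresentedGroup.of i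
    rw [show φ (PresentedGroup.of i) = ![a, b] i from PresentedGroup.toGroup.of hkill]
    fin_cases i
    · show ψ a = _
      rw [← hA, hmkw, ← mul_inv_eq_one]
      have := hmem (σ A * (FreeGroup.of 0)⁻¹) (by simp [L2])
      rw [map_mul, map_inv] at this
      exact this
    · show ψ b = _
      rw [← hB, hmkw, ← mul_inv_eq_one]
      have := hmem (σ B * (FreeGroup.of 1)⁻¹) (by simp [L2])
      rw [map_mul, map_inv] at this
      exact this
  exact ⟨φ.toMulEquiv ψ h2 h1, PresentedGroup.toGroup.of hkill, PresentedGroup.toGroup.of hkill⟩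

theorem two_gen_of_presOn {T : Type*} [Group T] {r r' : ℕ} (h : PresOn (Fin 2) T r) (hle : r ≤ r') :
    ∃ rels : Finset (FreeGroup (Fin 2)), rels.card ≤ r' ∧
      Nonempty (PresentedGroup (↑rels : Set (FreeGroup (Fin 2))) ≃* T) :=
  (h.mono hle).exists_iso

theorem sym_small {n : ℕ} (hn : n ≤ 4) :
    ∃ rels : Finset (FreeGroup (Fin 2)), rels.card ≤ 8 ∧
      Nonempty (PresentedGroup (↑rels : Set (FreeGroup (Fin 2))) ≃* Perm (Fin n)) := by
  interval_cases n
  · exact two_gen_of_presOn (presOn_cyclic 1 (Subsingleton.elim _ _)) (by norm_num)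
  · exact two_gen_of_presOn (presOn_cyclic 1 (Subsingleton.elim _ _)) (by norm_num)
  · refine two_gen_of_presOn (presOn_cyclic (Equiv.swap 0 1) ?_) (by norm_num)
    rw [eq_top_iff]
    intro σ _
    have h : ∀ τ : Perm (Fin 2), τ = 1 ∨ τ = Equiv.swap 0 1 := by decide
    rcases h σ with rfl | rfl
    · exact one_mem _
    · exact Subgroup.mem_zpowers _
  · obtain ⟨rels, h, e⟩ := (CfsgLib.BoundedPres.pres_sym_coxeter 2).two_generators _ _
      (CfsgLib.BoundedPres.closure_swN (N := 2) ▸ congrArg Subgroup.closure (by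
        ext z; simp [Fin.exists_fin_two, eq_comm]) :
        Subgroup.closure ({CfsgLib.BoundedPres.swN 2 0, CfsgLib.BoundedPres.swN 2 1} : Set (Perm (Fin 3))) = ⊤)
    exact ⟨rels, by omega, e⟩
  · obtain ⟨rels, h, e⟩ := pres_sym_four.two_generators (Equiv.swap 0 1) (finRotate 4) (by
      refine CfsgLib.BoundedPres.perm_eq_top_of_adjacent _ fun i => ?_
      have hc : finRotate 4 ∈ Subgroup.closure ({Equiv.swap 0 1, finRotate 4} : Set (Perm (Fin 4))) :=
        Subgroup.subset_closure (by simp)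
      have h0 : Equiv.swap 0 1 ∈ Subgroup.closure ({Equiv.swap 0 1, finRotate 4} : Set (Perm (Fin 4))) :=
        Subgroup.subset_closure (by simp)
      have e : Equiv.swap i.castSucc i.succ =
          finRotate 4 ^ (i : ℕ) * Equiv.swap 0 1 * (finRotate 4 ^ (i : ℕ))⁻¹ := by revert i; decide
      rw [e]
      exact mul_mem (mul_mem (pow_mem hc _) h0) (inv_mem (pow_mem hc _)))
    exact ⟨rels, by omega, e⟩

theorem alt_small {n : ℕ} (hn : n ≤ 4) :
    ∃ rels : Finset (FreeGroup (Fin 2)), rels.card ≤ 8 ∧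
      Nonempty (PresentedGroup (↑rels : Set (FreeGroup (Fin 2))) ≃* alternatingGroup (Fin n)) := by
  interval_cases n
  · exact two_gen_of_presOn (presOn_cyclic 1 (Subsingleton.elim _ _)) (by norm_num)
  · exact two_gen_of_presOn (presOn_cyclic 1 (Subsingleton.elim _ _)) (by norm_num)
  · refine two_gen_of_presOn (presOn_cyclic 1 (eq_top_iff.2 fun σ _ => ?_)) (by norm_num)
    have h : ∀ τ : Perm (Fin 2), Perm.sign τ = 1 → τ = 1 := by decide
    rw [show σ = 1 from Subtype.ext (h σ.1 σ.2)]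
    exact one_mem _
  · let c : alternatingGroup (Fin 3) := ⟨finRotate 3, Perm.mem_alternatingGroup.2 (by decide)⟩
    refine two_gen_of_presOn (presOn_cyclic c ?_) (by norm_num)
    rw [eq_top_iff]
    intro σ _
    have h : ∀ τ : Perm (Fin 3), Perm.sign τ = 1 →
        τ = 1 ∨ τ = finRotate 3 ∨ τ = finRotate 3 * finRotate 3 := by decide
    rcases h σ.1 σ.2 with h | h | h
    · rw [show σ = 1 from Subtype.ext h]; exact one_mem _
    · rw [show σ = c from Subtype.ext h]; exact Subgroup.mem_zpowers _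
    · rw [show σ = c * c from Subtype.ext h]; exact mul_mem (Subgroup.mem_zpowers _) (Subgroup.mem_zpowers _)
  · exact two_gen_of_presOn presOn_alt_four (by norm_num)

end CfsgLib.SymPres
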