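import Cfsg.Agent.Lib.SymPres.Carmichael

/-!
Four relations on a translation and a three-cycle giving Carmichael's relations on `p` indices.
-/

set_option autoImplicit false

namespace CfsgLib.SymPres

variable {G : Type*} [Group G]

/-- The conjugates of `x` by the powers of `a`. -/
def tr (a x : G) (i : ℕ) : G := a ^ i * x * (a ^ i)⁻¹

theorem pow_mod_of_pow_eq_one {a : G} {p : ℕ} (h : a ^ p = 1) (n : ℕ) : a ^ (n % p) = a ^ n := by
  conv_rhs => rw [← Nat.mod_add_div n p, pow_add, pow_mul, h, one_pow, mul_one]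

theorem conj_pow' (a b : G) (n : ℕ) : (a * b * a⁻¹) ^ n = a * b ^ n * a⁻¹ := by
  simp

theorem pow_left_comm {u : G} {N k : ℕ} (h : u ^ (2 ^ N) = u) (hk : k ≤ N) {v : G}
    (hc : Commute (u ^ (2 ^ k)) v) : Commute u v := by
  have : u = (u ^ (2 ^ k)) ^ (2 ^ (N - k)) := by
    rw [← pow_mul, ← pow_add, Nat.add_sub_cancel' hk, h]
  rw [this]
  exact hc.pow_left _

/-- The core computation: the relations give Carmichael's relations, and the translation is in the
group generated by the three-cycles. -/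
theorem agl_core {p s : ℕ} [Fact p.Prime] {γ : (ZMod p)ˣ} (hγ : ∀ u : (ZMod p)ˣ, ∃ e : ℕ, γ ^ e = u)
    (hγ1 : γ ≠ 1) (hs : (s : ZMod p) * ((γ : ZMod p) - 1) = 1) {a x m : G}
    (R1 : a ^ p = m ^ (p - 1)) (R2 : m * a ^ s * m⁻¹ = a ^ (s + 1)) (R3 : m * x * m⁻¹ = x ^ 2)
    (R4 : x ^ 3 = (x * (a * x * a⁻¹)) ^ 2)
    (hm : m ∈ Subgroup.closure (tr a x '' (Finset.range p : Set ℕ))) :
    CRel (tr a x) (Finset.range p) ∧ a ∈ Subgroup.closure (tr a x '' (Finset.range p : Set ℕ)) := by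
  have hp : p.Prime := Fact.out
  haveI : NeZero p := ⟨hp.ne_zero⟩
  -- the affine group
  have hmz : Commute m (a ^ p) := R1 ▸ (Commute.refl m).pow_right _
  have hap : a ^ p = 1 := by
    have e1 : (m * a ^ s * m⁻¹) ^ p = (a ^ (s + 1)) ^ p := by rw [R2]
    rw [conj_pow', ← pow_mul, ← pow_mul, mul_comm s p, mul_comm (s + 1) p, pow_mul, pow_mul,
      (hmz.pow_right s).eq, mul_inv_cancel_right, pow_succ] at e1
    exact (left_eq_mul.1 e1)
  have hmp : m ^ (p - 1) = 1 := R1 ▸ hap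
  let t : ZMod p → G := fun i => a ^ i.val
  have tnat : ∀ n : ℕ, t (n : ZMod p) = a ^ n := fun n => by
    show a ^ (n : ZMod p).val = _
    rw [ZMod.val_natCast, pow_mod_of_pow_eq_one hap]
  have tadd : ∀ i j, t (i + j) = t i * t j := fun i j => by
    show a ^ (i + j).val = _
    rw [ZMod.val_add, pow_mod_of_pow_eq_one hap, pow_add]
  have t0 : t 0 = 1 := by show a ^ (0 : ZMod p).val = 1; rw [ZMod.val_zero, pow_zero]
  have t1 : t 1 = a := by rw [← Nat.cast_one, tnat, pow_one]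
  have hmt : ∀ i, m * t i * m⁻¹ = t ((γ : ZMod p) * i) := by
    intro i
    set k := (i * ((γ : ZMod p) - 1)).val with hk
    have hi : i = ((s * k : ℕ) : ZMod p) := by
      rw [Nat.cast_mul, hk, ZMod.natCast_rightInverse, mul_left_comm, hs, mul_one]
    have hgi : (γ : ZMod p) * i = (((s + 1) * k : ℕ) : ZMod p) := by
      rw [Nat.cast_mul, hk, ZMod.natCast_rightInverse, Nat.cast_add, Nat.cast_one]
      linear_combination (-i) * hs
    rw [hgi, tnat, hi, tnat, pow_mul, pow_mul, ← conj_pow', R2]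
  -- the conjugates
  let u : ZMod p → G := fun i => t i * x * (t i)⁻¹
  have u0 : u 0 = x := by show t 0 * x * (t 0)⁻¹ = x; rw [t0]; simp
  have hta : ∀ j i, t j * u i * (t j)⁻¹ = u (j + i) := fun j i => by
    show t j * (t i * x * (t i)⁻¹) * (t j)⁻¹ = t (j + i) * x * (t (j + i))⁻¹
    rw [tadd]; group
  have hmu : ∀ i, m * u i * m⁻¹ = u ((γ : ZMod p) * i) ^ 2 := fun i => by
    show m * (t i * x * (t i)⁻¹) * m⁻¹ = (t ((γ : ZMod p) * i) * x * (t ((γ : ZMod p) * i))⁻¹) ^ 2
    rw [conj_pow', ← R3, ← hmt]; group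
  have hmue : ∀ (e : ℕ) i, m ^ e * u i * (m ^ e)⁻¹ = u (((γ ^ e : (ZMod p)ˣ) : ZMod p) * i) ^ (2 ^ e) := by
    intro e
    induction e with
    | zero => intro i; simp
    | succ e ih =>
      intro i
      have : m ^ (e + 1) * u i * (m ^ (e + 1))⁻¹ = m ^ e * (m * u i * m⁻¹) * (m ^ e)⁻¹ := by
        rw [pow_succ]; group
      rw [this, hmu, ← conj_pow', ih, ← pow_mul, ← pow_succ, ← mul_assoc, ← Units.val_mul, ← pow_succ]
  have hfix : ∀ i, u i ^ (2 ^ (p - 1)) = u i := by
    intro i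
    have := hmue (p - 1) i
    rw [hmp, one_mul, inv_one, mul_one, ZMod.units_pow_card_sub_one_eq_one p γ, Units.val_one, one_mul]
      at this
    exact this.symm
  have hE : ∀ l : ZMod p, l ≠ 0 → ∃ e, e ≤ p - 1 ∧ ((γ ^ e : (ZMod p)ˣ) : ZMod p) = l := by
    intro l hl
    obtain ⟨e, he⟩ := hγ (Units.mk0 l hl)
    refine ⟨e % (p - 1), (Nat.mod_lt _ (by have := hp.two_le; omega)).le, ?_⟩
    rw [pow_mod_of_pow_eq_one (ZMod.units_pow_card_sub_one_eq_one p γ), he, Units.val_mk0]
  -- the cubes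
  have hz : ∀ i, (u i * u (i + 1)) ^ 2 = u i ^ 3 := by
    intro i
    have e1 : u 1 = a * x * a⁻¹ := by show t 1 * x * (t 1)⁻¹ = _; rw [t1]
    have := congrArg (fun g => t i * g * (t i)⁻¹) R4
    simp only [← u0] at this e1
    rw [← e1, ← conj_pow', ← conj_pow'] at this
    rw [show t i * (u 0 * u 1) * (t i)⁻¹ = (t i * u 0 * (t i)⁻¹) * (t i * u 1 * (t i)⁻¹) by group,
      hta, hta, add_zero] at this
    exact this.symm
  have hc01 : Commute (u 0 ^ 3) (u 1) := by
    have h1 : Commute (u 0 ^ 3) (u 0 * u 1) := by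
      have := hz 0
      rw [zero_add] at this
      rw [← this]
      exact (Commute.refl _).pow_left 2
    have h2 : Commute (u 0 ^ 3) ((u 0)⁻¹ * (u 0 * u 1)) :=
      (((Commute.refl (u 0)).pow_left 3).inv_right).mul_right h1
    rwa [inv_mul_cancel_left] at h2
  have hc0 : ∀ l, Commute (u 0 ^ 3) (u l) := by
    intro l
    by_cases hl : l = 0
    · rw [hl]; exact (Commute.refl _).pow_left 3
    · obtain ⟨e, he, hel⟩ := hE l hl
      have h1 := hmue e 0
      have h2 := hmue e 1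
      rw [mul_zero] at h1
      rw [mul_one, hel] at h2
      have h3 : Commute ((u 0 ^ (2 ^ e)) ^ 3) (u l ^ (2 ^ e)) := by
        rw [← h1, ← h2, conj_pow']
        exact (Commute.conj_iff _).2 hc01
      rw [← pow_mul, mul_comm, pow_mul] at h3
      have h4 := pow_left_comm (by rw [← pow_mul, mul_comm, pow_mul, hfix]) he h3
      exact (pow_left_comm (hfix l) he h4.symm).symm
  have htrans : ∀ n : ℕ, tr a x n = u (n : ZMod p) := fun n => by
    show _ = t (n : ZMod p) * x * (t (n : ZMod p))⁻¹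
    rw [tnat]; rfl
  have hu_mem : ∀ i, u i ∈ Subgroup.closure (tr a x '' (Finset.range p : Set ℕ)) := fun i =>
    Subgroup.subset_closure ⟨i.val, by simpa using i.val_lt, by rw [htrans, ZMod.natCast_rightInverse]⟩
  have hcm : Commute (u 0 ^ 3) m := by
    have : Subgroup.closure (tr a x '' (Finset.range p : Set ℕ)) ≤ Subgroup.centralizer {u 0 ^ 3} := by
      rw [Subgroup.closure_le]
      rintro _ ⟨n, -, rfl⟩
      rw [SetLike.mem_coe, Subgroup.mem_centralizer_singleton_iff, htrans]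
      exact (hc0 _).symm.eq
    exact ((Subgroup.mem_centralizer_singleton_iff.1 (this hm)).symm : u 0 ^ 3 * m = m * u 0 ^ 3)
  have hz1 : u 0 ^ 3 = 1 := by
    have h1 : m * u 0 ^ 3 * m⁻¹ = (u 0 ^ 3) ^ 2 := by
      rw [← conj_pow', hmu, mul_zero, ← pow_mul, mul_comm, pow_mul]
    rw [← hcm.eq, mul_inv_cancel_right, pow_two] at h1
    exact left_eq_mul.1 h1
  have hcube : ∀ i, u i ^ 3 = 1 := by
    intro i
    have := hta i 0
    rw [add_zero] at this
    rw [← this, conj_pow', hz1]; simp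
  have hsq : ∀ i, u i ^ 2 = (u i)⁻¹ := fun i => eq_inv_of_mul_eq_one_left (by rw [← pow_succ]; exact hcube i)
  have hpow : ∀ (e : ℕ) i, u i ^ (2 ^ e) = u i ∨ u i ^ (2 ^ e) = (u i)⁻¹ := by
    intro e i
    induction e with
    | zero => left; simp
    | succ e ih =>
      rw [pow_succ, pow_mul]
      rcases ih with h | h
      · right; rw [h, hsq]
      · left; rw [h, inv_pow, hsq, inv_inv]
  have hp0 : ∀ l : ZMod p, l ≠ 0 → (u 0 * u l) ^ 2 = 1 := by
    intro l hl
    obtain ⟨e, -, hel⟩ := hE l hl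
    have h1 := hmue e 0
    have h2 := hmue e 1
    rw [mul_zero] at h1
    rw [mul_one, hel] at h2
    have h3 : ((u 0 ^ (2 ^ e)) * (u l ^ (2 ^ e))) ^ 2 = 1 := by
      rw [← h1, ← h2, show m ^ e * u 0 * (m ^ e)⁻¹ * (m ^ e * u 1 * (m ^ e)⁻¹) =
        m ^ e * (u 0 * u 1) * (m ^ e)⁻¹ by group, conj_pow', ]
      have := hz 0
      rw [zero_add, hcube] at this
      rw [this]; simp
    have hx : ∀ i : ZMod p, u i ^ (2 ^ e) = u i ↔ u 0 ^ (2 ^ e) = u 0 := by
      intro i
      have := hta i 0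
      rw [add_zero] at this
      rw [← this, conj_pow', mul_left_inj, mul_right_inj]
    rcases hpow e 0 with h | h
    · rwa [h, (hx l).2 h] at h3
    · rcases hpow e l with h' | h'
      · rwa [(hx l).1 h', h'] at h3
      · rw [h, h', ← mul_inv_rev, inv_pow, inv_eq_one] at h3
        exact pair_comm h3
  refine ⟨⟨fun n _ => by rw [htrans, hcube], fun n hn k hk hne => ?_⟩, ?_⟩
  · rw [htrans, htrans]
    have hl : (k : ZMod p) - (n : ZMod p) ≠ 0 := by
      rw [sub_ne_zero]
      intro e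
      rw [ZMod.natCast_eq_natCast_iff'] at e
      rw [Finset.mem_range] at hn hk
      rw [Nat.mod_eq_of_lt hn, Nat.mod_eq_of_lt hk] at e
      exact hne e.symm
    have := congrArg (fun g => t (n : ZMod p) * g * (t (n : ZMod p))⁻¹) (hp0 _ hl)
    simp only [← conj_pow', mul_one, mul_inv_cancel] at this
    rw [show t (n : ZMod p) * (u 0 * u ((k : ZMod p) - n)) * (t (n : ZMod p))⁻¹ =
        (t (n : ZMod p) * u 0 * (t (n : ZMod p))⁻¹) *
          (t (n : ZMod p) * u ((k : ZMod p) - n) * (t (n : ZMod p))⁻¹) by group,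
      hta, hta, add_zero, add_sub_cancel] at this
    exact this
  · set N := Subgroup.closure (tr a x '' (Finset.range p : Set ℕ))
    have hconj : ∀ g ∈ N, a * g * a⁻¹ ∈ N := by
      intro g hg
      have : N ≤ N.comap (MulAut.conj a).toMonoidHom := by
        rw [Subgroup.closure_le]
        rintro _ ⟨n, -, rfl⟩
        simp only [SetLike.mem_coe, Subgroup.mem_comap, MulEquiv.coe_toMonoidHom, MulAut.conj_apply]
        rw [htrans, ← t1, hta]
        exact hu_mem _
      exact this hg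
    have hb : t ((γ : ZMod p) - 1) ∈ N := by
      have h := N.mul_mem hm (hconj _ (N.inv_mem hm))
      have e : m * (a * m⁻¹ * a⁻¹) = t ((γ : ZMod p) - 1) := by
        rw [show m * (a * m⁻¹ * a⁻¹) = m * a * m⁻¹ * a⁻¹ by group, ← t1, hmt, mul_one,
          show (γ : ZMod p) = ((γ : ZMod p) - 1) + 1 by ring, tadd, t1, mul_inv_cancel_right,
          show ((γ : ZMod p) - 1) + 1 - 1 = (γ : ZMod p) - 1 by ring]
      rwa [e] at h
    have hγ0 : (γ : ZMod p) - 1 ≠ 0 := sub_ne_zero.2 fun h => hγ1 (Units.ext h)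
    have key : ∀ k : ℕ, t ((k : ZMod p) * ((γ : ZMod p) - 1)) ∈ N := by
      intro k
      induction k with
      | zero => rw [Nat.cast_zero, zero_mul, t0]; exact one_mem _
      | succ k ih =>
        rw [Nat.cast_succ, add_mul, one_mul, tadd]
        exact N.mul_mem ih hb
    have := key (((γ : ZMod p) - 1)⁻¹).val
    rwa [ZMod.natCast_rightInverse, inv_mul_cancel₀ hγ0, t1] at this

end CfsgLib.SymPres
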