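import Mathlib

/-!
Carmichael's relations for alternating groups: a tuple satisfying them and mapping to the standard
three-cycles through two fixed points generates a copy of the alternating group.
-/

set_option autoImplicit false

namespace CfsgLib.SymPres

open Equiv

/-- The points: `L` indexed points and two more. -/
abbrev Pt (L : ℕ) : Type := Fin L ⊕ Fin 2

variable {L : ℕ} [NeZero L]

/-- The indexed point. -/
def pt (i : ℕ) : Pt L := Sum.inl ⟨i % L, Nat.mod_lt _ (Nat.pos_of_ne_zero (NeZero.ne L))⟩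

/-- The first extra point. -/
def pP : Pt L := Sum.inr 0

/-- The second extra point. -/
def pQ : Pt L := Sum.inr 1

theorem pt_inj {i k : ℕ} (hi : i < L) (hk : k < L) : (pt i : Pt L) = pt k ↔ i = k := by
  simp [pt, Nat.mod_eq_of_lt hi, Nat.mod_eq_of_lt hk]

theorem pt_cases (z : Pt L) : (∃ i, i < L ∧ z = pt i) ∨ z = pP ∨ z = pQ := by
  rcases z with i | i
  · exact Or.inl ⟨i, i.2, by simp [pt, Nat.mod_eq_of_lt i.2]⟩
  · fin_cases i
    · exact Or.inr (Or.inl rfl)
    · exact Or.inr (Or.inr rfl)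

@[simp] theorem pt_ne_P (i : ℕ) : (pt i : Pt L) ≠ pP := by simp [pt, pP]
@[simp] theorem pt_ne_Q (i : ℕ) : (pt i : Pt L) ≠ pQ := by simp [pt, pQ]
@[simp] theorem P_ne_pt (i : ℕ) : (pP : Pt L) ≠ pt i := by simp [pt, pP]
@[simp] theorem Q_ne_pt (i : ℕ) : (pQ : Pt L) ≠ pt i := by simp [pt, pQ]
@[simp] theorem P_ne_Q : (pP : Pt L) ≠ pQ := by simp [pP, pQ]
@[simp] theorem Q_ne_P : (pQ : Pt L) ≠ pP := by simp [pP, pQ]

/-- The three-cycle `(i P Q)`. -/
def X (i : ℕ) : Perm (Pt L) := Equiv.swap (pt i) pP * Equiv.swap pP pQ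

theorem X_pt_self (i : ℕ) : X i (pt i : Pt L) = pP := by
  simp [X, Equiv.swap_apply_def]

theorem X_P (i : ℕ) : X i (pP : Pt L) = pQ := by
  simp [X, Equiv.swap_apply_def]

theorem X_Q (i : ℕ) : X i (pQ : Pt L) = pt i := by
  simp [X, Equiv.swap_apply_def]

theorem X_pt_ne {i k : ℕ} (h : (pt k : Pt L) ≠ pt i) : X i (pt k : Pt L) = pt k := by
  simp [X, Equiv.swap_apply_def, h]

theorem sign_X (i : ℕ) : Perm.sign (X i : Perm (Pt L)) = 1 := by
  simp [X]

/-- Even permutations moving at most the points of `S` and the two extra points. -/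
def Supp (S : Finset ℕ) (σ : Perm (Pt L)) : Prop :=
  Perm.sign σ = 1 ∧ ∀ i, i < L → i ∉ S → σ (pt i) = pt i

/-- The representative of the coset of the point `t`. -/
def rep {G : Type*} [Group G] (y : ℕ → G) (k : ℕ) (S : Finset ℕ) : Set G :=
  {1, y k, y k ^ 2} ∪ (fun i => y i * y k ^ 2) '' (S : Set ℕ)

theorem X_sq_pt {k : ℕ} : (X k ^ 2 : Perm (Pt L)) (pt k) = pQ := by
  rw [pow_two, Perm.mul_apply, X_pt_self, X_P]

theorem mem_closure_X {S : Finset ℕ} (hS : ∀ i ∈ S, i < L) :
    ∀ σ : Perm (Pt L), Supp S σ → σ ∈ Subgroup.closure (X '' (S : Set ℕ)) := by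
  induction S using Finset.induction with
  | empty =>
    intro σ hσ
    have hfix : ∀ i, i < L → σ (pt i) = pt i := fun i hi => hσ.2 i hi (Finset.notMem_empty i)
    have hP : σ pP = pP ∨ σ pP = pQ := by
      rcases pt_cases (σ pP) with ⟨i, hi, h⟩ | h | h
      · exact absurd (σ.injective (h.trans (hfix i hi).symm)) (P_ne_pt i)
      · exact Or.inl h
      · exact Or.inr h
    have hQ : σ pQ = pP ∨ σ pQ = pQ := by
      rcases pt_cases (σ pQ) with ⟨i, hi, h⟩ | h | h
      · exact absurd (σ.injective (h.trans (hfix i hi).symm)) (Q_ne_pt i)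
      · exact Or.inl h
      · exact Or.inr h
    rcases hP with hP | hP
    · have hQ' : σ pQ = pQ := hQ.resolve_left fun h => Q_ne_P (σ.injective (h.trans hP.symm))
      have : σ = 1 := Equiv.ext fun z => by
        rcases pt_cases z with ⟨i, hi, rfl⟩ | rfl | rfl
        · exact hfix i hi
        · exact hP
        · exact hQ'
      rw [this]; exact one_mem _
    · have hQ' : σ pQ = pP := hQ.resolve_right fun h => Q_ne_P (σ.injective (h.trans hP.symm))
      have : σ = Equiv.swap pP pQ := Equiv.ext fun z => by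
        rcases pt_cases z with ⟨i, hi, rfl⟩ | rfl | rfl
        · rw [hfix i hi, Equiv.swap_apply_of_ne_of_ne (pt_ne_P i) (pt_ne_Q i)]
        · rw [hP, Equiv.swap_apply_left]
        · rw [hQ', Equiv.swap_apply_right]
      have h1 := hσ.1
      rw [this, Perm.sign_swap P_ne_Q] at h1
      exact absurd h1 (by decide)
  | insert k S hk ih =>
    intro σ hσ
    have hk' : k < L := hS k (Finset.mem_insert_self _ _)
    have hS' : ∀ i ∈ S, i < L := fun i hi => hS i (Finset.mem_insert_of_mem hi)
    set H := Subgroup.closure (X '' ((insert k S : Finset ℕ) : Set ℕ) : Set (Perm (Pt L))) with hH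
    have hgen : ∀ i ∈ insert k S, (X i : Perm (Pt L)) ∈ H := fun i hi =>
      Subgroup.subset_closure ⟨i, hi, rfl⟩
    have key : ∀ r ∈ H, r (pt k) = σ (pt k) → σ ∈ H := by
      intro r hr he
      have hle : Subgroup.closure (X '' (S : Set ℕ)) ≤ H := by
        refine Subgroup.closure_mono (Set.image_mono ?_)
        simp
      have hsr : Perm.sign r = 1 := by
        have : H ≤ (Perm.sign : Perm (Pt L) →* ℤˣ).ker := by
          rw [hH, Subgroup.closure_le]
          rintro _ ⟨i, _, rfl⟩
          exact sign_X i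
        exact this hr
      have hfix : ∀ i, i < L → i ∉ insert k S → r (pt i) = pt i := by
        intro i hi hiS
        have : H ≤ MulAction.stabilizer (Perm (Pt L)) (pt i : Pt L) := by
          rw [hH, Subgroup.closure_le]
          rintro _ ⟨l, hl, rfl⟩
          simp only [SetLike.mem_coe, MulAction.mem_stabilizer_iff, Perm.smul_def]
          refine X_pt_ne fun h => hiS ?_
          rw [(pt_inj hi (hS l hl)).1 h]; exact hl
        exact MulAction.mem_stabilizer_iff.1 (this hr)
      have : r⁻¹ * σ ∈ Subgroup.closure (X '' (S : Set ℕ)) := by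
        refine ih hS' _ ⟨by rw [map_mul, map_inv, hsr, hσ.1]; simp, fun i hi hiS => ?_⟩
        rw [Perm.mul_apply, Perm.inv_eq_iff_eq]
        by_cases hik : i = k
        · rw [hik]; exact he.symm
        · rw [hσ.2 i hi (by simp [hik, hiS]), hfix i hi (by simp [hik, hiS])]
      have := H.mul_mem hr (hle this)
      rwa [mul_inv_cancel_left] at this
    have hXk := hgen k (Finset.mem_insert_self _ _)
    rcases pt_cases (σ (pt k)) with ⟨i, hi, h⟩ | h | h
    · by_cases hik : i = k
      · exact key 1 (one_mem _) (by rw [h, hik]; rfl)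
      · have hiS : i ∈ S := by
          by_contra hiS
          have h2 := hσ.2 i hi (by simp [hik, hiS])
          exact hik ((pt_inj hk' hi).1 (σ.injective (h.trans h2.symm))).symm
        refine key (X i * X k ^ 2) (H.mul_mem (hgen i (Finset.mem_insert_of_mem hiS)) (H.pow_mem hXk 2)) ?_
        rw [Perm.mul_apply, X_sq_pt, X_Q, h]
    · exact key (X k) hXk (by rw [X_pt_self, h])
    · exact key (X k ^ 2) (H.pow_mem hXk 2) (by rw [X_sq_pt, h])

section Rel

variable {G : Type*} [Group G]

/-- Carmichael's relations on the indices in `S`. -/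
structure CRel (y : ℕ → G) (S : Finset ℕ) : Prop where
  cube : ∀ i ∈ S, y i ^ 3 = 1
  pair : ∀ i ∈ S, ∀ k ∈ S, i ≠ k → (y i * y k) ^ 2 = 1

theorem pair_flip {a b : G} (h : (a * b) ^ 2 = 1) : b * a * b = a⁻¹ := by
  rw [pow_two] at h
  exact (inv_eq_of_mul_eq_one_right (by simpa [mul_assoc] using h)).symm

theorem pair_comm {a b : G} (h : (a * b) ^ 2 = 1) : (b * a) ^ 2 = 1 := by
  have : (b * a) ^ 2 = a⁻¹ * (a * b) ^ 2 * a := by simp only [pow_two]; group
  rw [this, h, mul_one, inv_mul_cancel]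

theorem CRel.decomp {y : ℕ → G} {S : Finset ℕ} {k : ℕ} (hk : k ∉ S) (h : CRel y (insert k S))
    {g : G} (hg : g ∈ Subgroup.closure (y '' ((insert k S : Finset ℕ) : Set ℕ))) :
    ∃ r ∈ rep y k S, ∃ u ∈ Subgroup.closure (y '' (S : Set ℕ)), g = r * u := by
  set K := Subgroup.closure (y '' (S : Set ℕ)) with hK
  have hy : ∀ i ∈ S, y i ∈ K := fun i hi => Subgroup.subset_closure ⟨i, hi, rfl⟩
  have hcube : ∀ i ∈ insert k S, y i ^ 2 = (y i)⁻¹ := fun i hi =>
    eq_inv_of_mul_eq_one_left (by rw [← pow_succ]; exact h.cube i hi)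
  have hflip : ∀ i ∈ S, y k * y i * y k = (y i)⁻¹ := fun i hi =>
    pair_flip (h.pair i (Finset.mem_insert_of_mem hi) k (Finset.mem_insert_self _ _)
      fun e => hk (e ▸ hi))
  have step : ∀ i ∈ insert k S, ∀ r ∈ rep y k S, ∃ r' ∈ rep y k S, ∃ u ∈ K, y i * r = r' * u := by
    intro i hi r hr
    have e2 := hcube k (Finset.mem_insert_self _ _)
    rcases Finset.mem_insert.1 hi with rfl | hiS
    · rcases hr with (rfl | rfl | rfl) | ⟨l, hl, rfl⟩
      · exact ⟨y i, by simp [rep], 1, one_mem _, by simp⟩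
      · exact ⟨y i ^ 2, by simp [rep], 1, one_mem _, by simp [pow_two]⟩
      · refine ⟨1, by simp [rep], 1, one_mem _, ?_⟩
        rw [← pow_succ', h.cube i (Finset.mem_insert_self _ _), mul_one]
      · refine ⟨y l * y i ^ 2, Or.inr ⟨l, hl, rfl⟩, (y l)⁻¹, K.inv_mem (hy l hl), ?_⟩
        have e := hflip l hl
        have el := hcube l (Finset.mem_insert_of_mem hl)
        calc y i * (y l * y i ^ 2) = y i * y l * y i * y i := by rw [pow_two]; group
          _ = (y l)⁻¹ * y i := by rw [e]
          _ = y l * (y l * y i) := by rw [← mul_assoc, ← pow_two, el]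
          _ = y l * y i ^ 2 * (y i * y l * y i) := by
            have := h.cube i (Finset.mem_insert_self _ _)
            rw [mul_assoc (y l), show y i ^ 2 * (y i * y l * y i) = y i ^ 3 * (y l * y i) by group, this,
              one_mul]
          _ = y l * y i ^ 2 * (y l)⁻¹ := by rw [e]
    · rcases hr with (rfl | rfl | rfl) | ⟨l, hl, rfl⟩
      · exact ⟨1, by simp [rep], y i, hy i hiS, by simp⟩
      · refine ⟨y k ^ 2, by simp [rep], (y i)⁻¹, K.inv_mem (hy i hiS), ?_⟩
        rw [← hflip i hiS, show y k ^ 2 * (y k * y i * y k) = y k ^ 3 * (y i * y k) by group,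
          h.cube k (Finset.mem_insert_self _ _), one_mul]
      · exact ⟨y i * y k ^ 2, Or.inr ⟨i, hiS, rfl⟩, 1, one_mem _, by simp⟩
      · have e := hflip i hiS
        have ek := h.cube k (Finset.mem_insert_self _ _)
        by_cases hil : i = l
        · subst hil
          refine ⟨y k, by simp [rep], y i, hy i hiS, ?_⟩
          calc y i * (y i * y k ^ 2) = y i ^ 2 * y k ^ 2 := by simp only [pow_two, mul_assoc]
            _ = (y i)⁻¹ * y k ^ 2 := by rw [hcube i (Finset.mem_insert_of_mem hiS)]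
            _ = y k * y i * y k ^ 3 := by rw [← e]; group
            _ = y k * y i := by rw [ek, mul_one]
        · refine ⟨y l * y k ^ 2, Or.inr ⟨l, hl, rfl⟩, (y l)⁻¹ * y i,
            K.mul_mem (K.inv_mem (hy l hl)) (hy i hiS), ?_⟩
          have el := hflip l hl
          have hil' : y i * y l = (y l)⁻¹ * (y i)⁻¹ := by
            rw [← mul_inv_rev]
            exact eq_inv_of_mul_eq_one_left (by
              rw [← pow_two]; exact h.pair i (Finset.mem_insert_of_mem hiS) l (Finset.mem_insert_of_mem hl) hil)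
          calc y i * (y l * y k ^ 2) = (y l)⁻¹ * (y i)⁻¹ * y k ^ 2 := by rw [← mul_assoc, hil']
            _ = (y l)⁻¹ * (y k * y i * y k ^ 3) := by rw [← e]; group
            _ = (y l)⁻¹ * y k * y i := by rw [ek, mul_one, mul_assoc]
            _ = y l * (y l * y k) * y i := by
              rw [← mul_assoc (y l) (y l), ← pow_two, hcube l (Finset.mem_insert_of_mem hl)]
            _ = y l * y k ^ 2 * (y k * y l * y k) * y i := by
              rw [mul_assoc (y l) (y k ^ 2), show y k ^ 2 * (y k * y l * y k) = y k ^ 3 * (y l * y k) by group,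
                ek, one_mul]
            _ = y l * y k ^ 2 * ((y l)⁻¹ * y i) := by rw [el, mul_assoc]
  have step' : ∀ i ∈ insert k S, ∀ g', (∃ r ∈ rep y k S, ∃ u ∈ K, g' = r * u) →
      ∃ r ∈ rep y k S, ∃ u ∈ K, y i * g' = r * u := by
    rintro i hi _ ⟨r, hr, u, hu, rfl⟩
    obtain ⟨r', hr', v, hv, e⟩ := step i hi r hr
    exact ⟨r', hr', v * u, K.mul_mem hv hu, by rw [← mul_assoc, e, mul_assoc]⟩
  induction hg using Subgroup.closure_induction_left with
  | one => exact ⟨1, by simp [rep], 1, one_mem _, by simp⟩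
  | mul_left x hx g' _ ih =>
    obtain ⟨i, hi, rfl⟩ := hx
    exact step' i hi g' ih
  | inv_mul_cancel x hx g' _ ih =>
    obtain ⟨i, hi, rfl⟩ := hx
    rw [← hcube i hi, pow_two, mul_assoc]
    exact step' i hi _ (step' i hi g' ih)

theorem CRel.injOn (φ : G →* Perm (Pt L)) {y : ℕ → G} {S : Finset ℕ} (hS : ∀ i ∈ S, i < L)
    (h : CRel y S) (hφ : ∀ i ∈ S, φ (y i) = X i) :
    ∀ g ∈ Subgroup.closure (y '' (S : Set ℕ)), φ g = 1 → g = 1 := by
  induction S using Finset.induction with
  | empty =>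
    intro g hg _
    simpa using hg
  | insert k S hk ih =>
    intro g hg hg1
    have hkL : k < L := hS k (Finset.mem_insert_self _ _)
    have hφk := hφ k (Finset.mem_insert_self _ _)
    obtain ⟨r, hr, u, hu, rfl⟩ := h.decomp hk hg
    have hu' : φ u (pt k) = pt k := by
      have : Subgroup.closure (y '' (S : Set ℕ)) ≤
          (MulAction.stabilizer (Perm (Pt L)) (pt k : Pt L)).comap φ := by
        rw [Subgroup.closure_le]
        rintro _ ⟨l, hl, rfl⟩
        simp only [SetLike.mem_coe, Subgroup.mem_comap, MulAction.mem_stabilizer_iff, Perm.smul_def]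
        rw [hφ l (Finset.mem_insert_of_mem hl)]
        refine X_pt_ne fun e => hk ?_
        rw [(pt_inj hkL (hS l (Finset.mem_insert_of_mem hl))).1 e]; exact hl
      exact MulAction.mem_stabilizer_iff.1 (this hu)
    have hrk : φ r (pt k) = pt k := by
      have h0 : φ (r * u) (pt k) = pt k := by rw [hg1]; rfl
      rwa [map_mul, Perm.mul_apply, hu'] at h0
    have hr1 : r = 1 := by
      rcases hr with (rfl | rfl | rfl) | ⟨l, hl, rfl⟩
      · rfl
      · rw [hφk, X_pt_self] at hrk
        exact absurd hrk (P_ne_pt k)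
      · rw [map_pow, hφk, X_sq_pt] at hrk
        exact absurd hrk (Q_ne_pt k)
      · rw [map_mul, map_pow, hφ l (Finset.mem_insert_of_mem hl), hφk, Perm.mul_apply, X_sq_pt, X_Q,
          pt_inj (hS l (Finset.mem_insert_of_mem hl)) hkL] at hrk
        exact absurd (hrk ▸ hl) hk
    subst hr1
    rw [one_mul] at hg1 ⊢
    exact ih (fun i hi => hS i (Finset.mem_insert_of_mem hi))
      ⟨fun i hi => h.cube i (Finset.mem_insert_of_mem hi),
        fun i hi l hl => h.pair i (Finset.mem_insert_of_mem hi) l (Finset.mem_insert_of_mem hl)⟩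
      (fun i hi => hφ i (Finset.mem_insert_of_mem hi)) u hu hg1

theorem CRel.eq_of_map (φ : G →* Perm (Pt L)) {y : ℕ → G} {S : Finset ℕ} (hS : ∀ i ∈ S, i < L)
    (h : CRel y S) (hφ : ∀ i ∈ S, φ (y i) = X i) {u v : G}
    (hu : u ∈ Subgroup.closure (y '' (S : Set ℕ))) (hv : v ∈ Subgroup.closure (y '' (S : Set ℕ)))
    (e : φ u = φ v) : u = v :=
  mul_inv_eq_one.1 (CRel.injOn φ hS h hφ _ (mul_mem hu (inv_mem hv))
    (by rw [map_mul, map_inv, e, mul_inv_cancel]))

end Rel

end CfsgLib.SymPres
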