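import Cfsg.Agent.Lib.SymPres.Carmichael

/-!
The permutations realising the generators of the presentation.
-/

set_option autoImplicit false

namespace CfsgLib.SymPres

open Equiv

variable {L : ℕ} [NeZero L]

/-- The exponent attached to a twist. -/
def eps (b : Bool) : ℤ := if b then -1 else 1

theorem eps_mul_self (b : Bool) : eps b * eps b = 1 := by cases b <;> simp [eps]

/-- The rotation of the indices, twisted by the exchange of the extra points. -/
def cT (L : ℕ) (b : Bool) : Perm (Pt L) :=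
  Perm.sumCongr (finRotate L) (if b then Equiv.swap 0 1 else 1)

theorem cT_pt (b : Bool) (i : ℕ) : cT L b (pt i) = pt (i + 1) := by
  simp only [cT, pt, Perm.sumCongr_apply, Sum.map_inl, Sum.inl.injEq]
  rw [finRotate_apply]
  apply Fin.ext
  simp [Fin.val_add, Nat.add_mod]

theorem cT_P (b : Bool) : cT L b pP = if b then pQ else pP := by
  cases b <;> simp [cT, pP, pQ]

theorem cT_Q (b : Bool) : cT L b pQ = if b then pP else pQ := by
  cases b <;> simp [cT, pP, pQ]

theorem sign_cT (b : Bool) :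
    Perm.sign (cT L b) = (-1) ^ (L - 1) * (if b then -1 else 1) := by
  cases b <;> simp [cT, Perm.sign_sumCongr]

theorem cT_pow_pt (b : Bool) (k i : ℕ) : (cT L b ^ k) (pt i) = pt (i + k) := by
  induction k with
  | zero => rfl
  | succ k ih => rw [pow_succ', Perm.mul_apply, ih, cT_pt, Nat.add_assoc]

theorem cT_inv_pt (b : Bool) (i : ℕ) : (cT L b)⁻¹ (pt (i + 1)) = pt i := by
  rw [Perm.inv_eq_iff_eq, cT_pt]

theorem pt_add_L (i : ℕ) : (pt (i + L) : Pt L) = pt i := by simp [pt]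

theorem X_conj (σ : Perm (Pt L)) {i k : ℕ} (hi : σ (pt i) = pt k) (hP : σ pP = pP) (hQ : σ pQ = pQ) :
    σ * X i * σ⁻¹ = X k := by
  rw [X, X, show σ * (Equiv.swap (pt i) pP * Equiv.swap pP pQ) * σ⁻¹ =
    (σ * Equiv.swap (pt i) pP * σ⁻¹) * (σ * Equiv.swap pP pQ * σ⁻¹) by group,
    ← Equiv.swap_apply_apply, ← Equiv.swap_apply_apply, hi, hP, hQ]

theorem X_inv (k : ℕ) : (X k : Perm (Pt L))⁻¹ = Equiv.swap (pt k) pQ * Equiv.swap pQ pP := by
  refine inv_eq_of_mul_eq_one_right (Equiv.ext fun z => ?_)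
  rcases pt_cases z with ⟨i, hi, rfl⟩ | rfl | rfl
  · by_cases h : (pt i : Pt L) = pt k <;> simp [X, Equiv.swap_apply_def, h]
  · simp [X, Equiv.swap_apply_def]
  · simp [X, Equiv.swap_apply_def]

theorem X_conj_swap (σ : Perm (Pt L)) {i k : ℕ} (hi : σ (pt i) = pt k) (hP : σ pP = pQ) (hQ : σ pQ = pP) :
    σ * X i * σ⁻¹ = (X k)⁻¹ := by
  rw [X_inv, X, show σ * (Equiv.swap (pt i) pP * Equiv.swap pP pQ) * σ⁻¹ =
    (σ * Equiv.swap (pt i) pP * σ⁻¹) * (σ * Equiv.swap pP pQ * σ⁻¹) by group,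
    ← Equiv.swap_apply_apply, ← Equiv.swap_apply_apply, hi, hP, hQ]

theorem cT_conj_X (b : Bool) (i : ℕ) : cT L b * X i * (cT L b)⁻¹ = X (i + 1) ^ eps b := by
  cases b with
  | false =>
    simpa [eps] using X_conj _ (cT_pt false i) (by simp [cT_P]) (by simp [cT_Q])
  | true =>
    simpa [eps] using X_conj_swap _ (cT_pt true i) (by simp [cT_P]) (by simp [cT_Q])

theorem X_cube (k : ℕ) : (X k : Perm (Pt L)) ^ 3 = 1 := by
  refine Equiv.ext fun z => ?_
  simp only [pow_succ, pow_zero, one_mul, Perm.mul_apply, Perm.one_apply]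
  rcases pt_cases z with ⟨i, hi, rfl⟩ | rfl | rfl
  · by_cases h : (pt i : Pt L) = pt k
    · rw [h, X_pt_self, X_P, X_Q]
    · rw [X_pt_ne h, X_pt_ne h, X_pt_ne h]
  · rw [X_P, X_Q, X_pt_self]
  · rw [X_Q, X_pt_self, X_P]

theorem X_pair {i k : ℕ} (h : (pt i : Pt L) ≠ pt k) : (X i * X k : Perm (Pt L)) ^ 2 = 1 := by
  refine Equiv.ext fun z => ?_
  simp only [pow_two, Perm.mul_apply, Perm.one_apply]
  rcases pt_cases z with ⟨l, hl, rfl⟩ | rfl | rfl
  · by_cases h1 : (pt l : Pt L) = pt i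
    · rw [h1, X_pt_ne h, X_pt_self, X_P, X_Q i]
    · by_cases h2 : (pt l : Pt L) = pt k
      · rw [h2, X_pt_self, X_P, X_Q k, X_pt_ne h.symm]
      · rw [X_pt_ne h2, X_pt_ne h1, X_pt_ne h2, X_pt_ne h1]
  · rw [X_P, X_Q i, X_pt_ne h, X_pt_self]
  · rw [X_Q, X_pt_ne h.symm, X_pt_self, X_P]

section Window

variable {p : ℕ} [NeZero p]

/-- The window of `p` indices starting at `q`. -/
def win (q : ℕ) (h : q + p ≤ L) : ZMod p ↪ Pt L where
  toFun k := pt (q + k.val)
  inj' k l e := by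
    have hk := k.val_lt
    have hl := l.val_lt
    rw [pt_inj (by omega) (by omega)] at e
    exact ZMod.val_injective p (by omega)

theorem win_pt {q : ℕ} (h : q + p ≤ L) {i : ℕ} (hq : q ≤ i) (hi : i < q + p) :
    (pt i : Pt L) = win q h ((i - q : ℕ) : ZMod p) := by
  show pt i = pt (q + (((i - q : ℕ)) : ZMod p).val)
  rw [ZMod.val_natCast, Nat.mod_eq_of_lt (by omega), Nat.add_sub_cancel' hq]

theorem win_out {q : ℕ} (h : q + p ≤ L) {i : ℕ} (hiL : i < L) (hi : i < q ∨ q + p ≤ i) :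
    (pt i : Pt L) ∉ Set.range (win q h : ZMod p ↪ Pt L) := by
  rintro ⟨k, e⟩
  have hk := k.val_lt
  have e' : (pt (q + k.val) : Pt L) = pt i := e
  rw [pt_inj (by omega) hiL] at e'
  omega

theorem win_not_inr {q : ℕ} (h : q + p ≤ L) (z : Fin 2) :
    (Sum.inr z : Pt L) ∉ Set.range (win q h : ZMod p ↪ Pt L) := by
  rintro ⟨k, e⟩
  exact Sum.inl_ne_inr e

/-- A permutation of the residues carried to a window. -/
noncomputable def onWin (q : ℕ) (h : q + p ≤ L) (σ : Perm (ZMod p)) : Perm (Pt L) :=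
  σ.viaEmbedding (win q h)

theorem onWin_pt {q : ℕ} (h : q + p ≤ L) (σ : Perm (ZMod p)) {i : ℕ} (hq : q ≤ i) (hi : i < q + p) :
    onWin q h σ (pt i) = pt (q + (σ ((i - q : ℕ) : ZMod p)).val) := by
  rw [onWin, win_pt h hq hi, Perm.viaEmbedding_apply]
  rfl

theorem onWin_out {q : ℕ} (h : q + p ≤ L) (σ : Perm (ZMod p)) {i : ℕ} (hiL : i < L)
    (hi : i < q ∨ q + p ≤ i) : onWin q h σ (pt i) = pt i :=
  Perm.viaEmbedding_apply_of_notMem _ _ _ (win_out h hiL hi)

theorem onWin_inr {q : ℕ} (h : q + p ≤ L) (σ : Perm (ZMod p)) (z : Fin 2) :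
    onWin q h σ (Sum.inr z : Pt L) = Sum.inr z :=
  Perm.viaEmbedding_apply_of_notMem _ _ _ (win_not_inr h z)

theorem sign_onWin {q : ℕ} (h : q + p ≤ L) (σ : Perm (ZMod p)) :
    Perm.sign (onWin q h σ : Perm (Pt L)) = Perm.sign σ := by
  classical
  simp only [onWin, Perm.viaEmbedding]
  convert Perm.sign_extendDomain σ (Equiv.ofInjective (win q h : ZMod p ↪ Pt L) (win q h).injective) <;> rfl

theorem onWin_mul {q : ℕ} (h : q + p ≤ L) (σ τ : Perm (ZMod p)) :
    (onWin q h (σ * τ) : Perm (Pt L)) = onWin q h σ * onWin q h τ :=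
  map_mul (Perm.viaEmbeddingHom (win q h)) σ τ

end Window

theorem sign_addRight {p : ℕ} [Fact p.Prime] (hp : p ≠ 2) (k : ZMod p) :
    Perm.sign (Equiv.addRight k : Perm (ZMod p)) = 1 := by
  have h2 : (2 : ZMod p) ≠ 0 := by
    have : ((2 : ℕ) : ZMod p) ≠ 0 := by
      rw [Ne, ZMod.natCast_eq_zero_iff]
      exact fun h => hp ((Nat.prime_dvd_prime_iff_eq Fact.out Nat.prime_two).1 h)
    simpa using this
  have : (Equiv.addRight k : Perm (ZMod p)) = Equiv.addRight (k / 2) * Equiv.addRight (k / 2) := by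
    ext z
    simp [add_assoc]
    field_simp
    ring
  rw [this, map_mul, Int.units_mul_self]

theorem sign_mulLeft {p : ℕ} [Fact p.Prime] (hp : p ≠ 2) {γ : (ZMod p)ˣ}
    (hγ : ∀ u : (ZMod p)ˣ, ∃ e : ℕ, γ ^ e = u) (hγ1 : γ ≠ 1) :
    Perm.sign (Units.mulLeft γ : Perm (ZMod p)) = -1 := by
  classical
  set σ : Perm (ZMod p) := Units.mulLeft γ
  have hpow : ∀ e : ℕ, (σ ^ e) 1 = ((γ ^ e : (ZMod p)ˣ) : ZMod p) := by
    intro e
    induction e with
    | zero => simp
    | succ e ih => rw [pow_succ', Perm.mul_apply, ih]; simp [σ, pow_succ']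
  have hmove : ∀ y, σ y ≠ y ↔ y ≠ 0 := by
    intro y
    constructor
    · intro h e
      exact h (by simp [σ, e])
    · intro hy h
      have : (γ : ZMod p) * y = 1 * y := by rw [one_mul]; exact h
      exact hγ1 (Units.ext (mul_right_cancel₀ hy this))
  have hcyc : σ.IsCycle := by
    refine ⟨1, (hmove 1).2 one_ne_zero, fun y hy => ?_⟩
    obtain ⟨e, he⟩ := hγ (Units.mk0 y ((hmove y).1 hy))
    exact ⟨(e : ℤ), by rw [zpow_natCast, hpow, he, Units.val_mk0]⟩
  have hs : σ.support = Finset.univ.erase 0 := by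
    ext y
    simp only [Perm.mem_support, Finset.mem_erase, Finset.mem_univ, and_true]
    exact hmove y
  rw [hcyc.sign, hs, Finset.card_erase_of_mem (Finset.mem_univ _), Finset.card_univ, ZMod.card,
    Even.neg_one_pow (((Fact.out : p.Prime).odd_of_ne_two hp).tsub_odd odd_one)]

end CfsgLib.SymPres
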