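import Cfsg.Agent.Lib.SymPres.Agl
import Cfsg.Agent.Lib.SymPres.Target

/-!
A group satisfying seven relations on three generators embeds into the symmetric group.
-/

set_option autoImplicit false

namespace CfsgLib.SymPres

open Equiv

variable {L : ℕ} [NeZero L]

theorem cT_pow_inr (b : Bool) (k : ℕ) (z : Fin 2) :
    ∃ w : Fin 2, (cT L b ^ k) (Sum.inr z : Pt L) = Sum.inr w := by
  induction k with
  | zero => exact ⟨z, rfl⟩
  | succ k ih =>
    obtain ⟨w, hw⟩ := ih
    rw [pow_succ', Perm.mul_apply, hw]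
    exact ⟨(if b then Equiv.swap 0 1 else 1 : Perm (Fin 2)) w, rfl⟩

theorem cT_pow_inv_inr (b : Bool) (k : ℕ) (z : Fin 2) :
    ∃ w : Fin 2, (cT L b ^ k)⁻¹ (Sum.inr z : Pt L) = Sum.inr w := by
  rcases h : (cT L b ^ k)⁻¹ (Sum.inr z : Pt L) with i | w
  · exfalso
    rw [Perm.inv_eq_iff_eq] at h
    have e : (Sum.inl i : Pt L) = pt (i : ℕ) := by simp [pt, Nat.mod_eq_of_lt i.2]
    rw [e, cT_pow_pt] at h
    exact Sum.inr_ne_inl h
  · exact ⟨w, rfl⟩

theorem cT_pow_conj_X (b : Bool) (k i : ℕ) :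
    cT L b ^ k * X i * (cT L b ^ k)⁻¹ = X (i + k) ^ (eps b ^ k) := by
  induction k with
  | zero => simp
  | succ k ih =>
    rw [pow_succ', show cT L b * cT L b ^ k * X i * (cT L b * cT L b ^ k)⁻¹ =
      cT L b * (cT L b ^ k * X i * (cT L b ^ k)⁻¹) * (cT L b)⁻¹ by group, ih, ← conj_zpow, cT_conj_X,
      ← zpow_mul, pow_succ', Nat.add_assoc]

theorem onWin_conj_X {p : ℕ} [NeZero p] (h : 0 + p ≤ L) (σ : Perm (ZMod p)) {i : ℕ} (hi : i < p) :
    onWin 0 h σ * X i * (onWin 0 h σ : Perm (Pt L))⁻¹ = X (σ (i : ZMod p)).val := by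
  refine X_conj _ ?_ (onWin_inr h σ 0) (onWin_inr h σ 1)
  rw [onWin_pt h σ (Nat.zero_le i) (by omega), Nat.zero_add, Nat.sub_zero]

theorem addRight_pow {p : ℕ} (k : ZMod p) (n : ℕ) :
    (Equiv.addRight k : Perm (ZMod p)) ^ n = Equiv.addRight ((n : ZMod p) * k) := by
  induction n with
  | zero => ext z; simp
  | succ n ih =>
    ext z
    rw [pow_succ', Perm.mul_apply, ih]
    simp [add_mul, add_assoc]

/-- The translation of the first window. -/
noncomputable def aT {p : ℕ} [NeZero p] (h : 0 + p ≤ L) : Perm (Pt L) :=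
  onWin 0 h (Equiv.addRight (1 : ZMod p))

theorem onWin_pow {p : ℕ} [NeZero p] {q : ℕ} (h : q + p ≤ L) (σ : Perm (ZMod p)) (n : ℕ) :
    (onWin q h (σ ^ n) : Perm (Pt L)) = onWin q h σ ^ n :=
  map_pow (Perm.viaEmbeddingHom (win q h)) σ n

theorem aT_pow_conj {p : ℕ} [NeZero p] (h : 0 + p ≤ L) {i : ℕ} (hi : i < p) :
    aT h ^ i * X 0 * (aT h ^ i : Perm (Pt L))⁻¹ = X i := by
  rw [aT, ← onWin_pow, addRight_pow, onWin_conj_X h _ (NeZero.pos p)]
  simp [ZMod.val_natCast, Nat.mod_eq_of_lt hi]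

/-- The cycle on the first `p - 1` indices, twisted. -/
noncomputable def vT {p : ℕ} [NeZero p] (h : 0 + p ≤ L) : Perm (Pt L) :=
  Equiv.swap (pt 0) (pt (p - 1)) * aT h * Equiv.swap pP pQ

theorem aT_pt {p : ℕ} [NeZero p] (h : 0 + p ≤ L) {i : ℕ} (hi : i < p) :
    (aT h : Perm (Pt L)) (pt i) = pt ((i + 1) % p) := by
  rw [aT, onWin_pt h _ (Nat.zero_le i) (by omega), Nat.zero_add, Nat.sub_zero, Equiv.coe_addRight]
  simp only [← Nat.cast_one (R := ZMod p), ← Nat.cast_add, ZMod.val_natCast]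

theorem aT_P {p : ℕ} [NeZero p] (h : 0 + p ≤ L) : (aT h : Perm (Pt L)) pP = pP := onWin_inr h _ 0

theorem aT_Q {p : ℕ} [NeZero p] (h : 0 + p ≤ L) : (aT h : Perm (Pt L)) pQ = pQ := onWin_inr h _ 1

theorem vT_pt {p : ℕ} [NeZero p] (h : 0 + p ≤ L) {i : ℕ} (hi : i + 2 < p) :
    (vT h : Perm (Pt L)) (pt i) = pt (i + 1) := by
  rw [vT, Perm.mul_apply, Perm.mul_apply, Equiv.swap_apply_of_ne_of_ne (pt_ne_P i) (pt_ne_Q i),
    aT_pt h (by omega), Nat.mod_eq_of_lt (by omega)]
  refine Equiv.swap_apply_of_ne_of_ne ?_ ?_ <;> rw [Ne, pt_inj (by omega) (by omega)] <;> omega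

theorem vT_fix {p : ℕ} [NeZero p] (h : 0 + p ≤ L) (hp : 2 ≤ p) {i : ℕ} (hi : p - 1 ≤ i) (hiL : i < L) :
    (vT h : Perm (Pt L)) (pt i) = pt i := by
  rw [vT, Perm.mul_apply, Perm.mul_apply, Equiv.swap_apply_of_ne_of_ne (pt_ne_P i) (pt_ne_Q i)]
  rcases Nat.lt_or_ge i p with hip | hip
  · rw [aT_pt h hip, show i + 1 = p by omega, Nat.mod_self, Equiv.swap_apply_left, show p - 1 = i by omega]
  · rw [aT, onWin_out h _ hiL (Or.inr (by omega))]
    refine Equiv.swap_apply_of_ne_of_ne ?_ ?_ <;> rw [Ne, pt_inj (by omega) (by omega)] <;> omega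

theorem vT_P {p : ℕ} [NeZero p] (h : 0 + p ≤ L) : (vT h : Perm (Pt L)) pP = pQ := by
  rw [vT, Perm.mul_apply, Perm.mul_apply, Equiv.swap_apply_left, aT_Q,
    Equiv.swap_apply_of_ne_of_ne (Q_ne_pt _) (Q_ne_pt _)]

theorem vT_Q {p : ℕ} [NeZero p] (h : 0 + p ≤ L) : (vT h : Perm (Pt L)) pQ = pP := by
  rw [vT, Perm.mul_apply, Perm.mul_apply, Equiv.swap_apply_right, aT_P,
    Equiv.swap_apply_of_ne_of_ne (P_ne_pt _) (P_ne_pt _)]

/-- The gluing permutation of the last window. -/
noncomputable def wT {p : ℕ} [NeZero p] (h : 0 + p ≤ L) (b : Bool) (r : ℕ) : Perm (Pt L) :=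
  cT L b ^ (L - p) * onWin 0 h (Equiv.addRight (r : ZMod p)) * (cT L b ^ (L - p))⁻¹

theorem wT_low {p : ℕ} [NeZero p] (h : 0 + p ≤ L) (b : Bool) (r : ℕ) {i : ℕ} (hi : i < L - p) :
    (wT h b r : Perm (Pt L)) (pt i) = pt i := by
  have e : (cT L b ^ (L - p))⁻¹ (pt i) = pt (i + p) := by
    rw [Perm.inv_eq_iff_eq, cT_pow_pt, show i + p + (L - p) = i + L by omega, pt_add_L]
  rw [wT, Perm.mul_apply, Perm.mul_apply, e, onWin_out h _ (by omega) (Or.inr (by omega)), cT_pow_pt,
    show i + p + (L - p) = i + L by omega, pt_add_L]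

theorem wT_inr {p : ℕ} [NeZero p] (h : 0 + p ≤ L) (b : Bool) (r : ℕ) (z : Fin 2) :
    (wT h b r : Perm (Pt L)) (Sum.inr z) = Sum.inr z := by
  obtain ⟨w, hw⟩ := cT_pow_inv_inr (L := L) b (L - p) z
  rw [wT, Perm.mul_apply, Perm.mul_apply, hw, onWin_inr, ← hw, Perm.coe_inv, Equiv.apply_symm_apply]

theorem zpow_pair {G : Type*} [Group G] {u w : G} (h : (u * w) ^ 2 = 1) {e : ℤ} (he : e * e = 1) :
    (u ^ e * w ^ e) ^ 2 = 1 := by
  rcases Int.eq_one_or_neg_one_of_mul_eq_one he with rfl | rfl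
  · simpa using h
  · rw [zpow_neg_one, zpow_neg_one, ← mul_inv_rev, inv_pow, inv_eq_one]
    exact pair_comm h

set_option maxHeartbeats 1000000 in
/-- Seven relations give an embedding. -/
theorem core_injective {p r s : ℕ} [Fact p.Prime] [NeZero p] {b : Bool} {γ : (ZMod p)ˣ}
    (hγ : ∀ u : (ZMod p)ˣ, ∃ e : ℕ, γ ^ e = u) (hγ1 : γ ≠ 1) (hs : (s : ZMod p) * ((γ : ZMod p) - 1) = 1)
    (hp3 : 3 ≤ p) (hpL : 0 + p ≤ L) (hLr : L + r ≤ 2 * p)
    (hr : r = 1 ∨ (r = 2 ∧ Perm.sign (cT L b) = -1))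
    {G : Type*} [Group G] (φ : G →* Perm (Pt L)) {a c x m v v' j j0 : G}
    (hφa : φ a = aT hpL) (hφc : φ c = cT L b) (hφx : φ x = X 0)
    (hgen : Subgroup.closure ({a, c, x} : Set G) = ⊤)
    (hm : m ∈ Subgroup.closure (tr a x '' (Finset.range p : Set ℕ)))
    (hv : v ∈ Subgroup.closure (tr a x '' (Finset.range (p - 1) : Set ℕ)))
    (hφv : φ v = vT hpL)
    (hv' : v' ∈ Subgroup.closure (tr a x '' (Finset.range p : Set ℕ)))
    (hj : j ∈ Subgroup.closure (tr a x '' (Finset.range p : Set ℕ)))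
    (hj0 : j0 ∈ Subgroup.closure (tr a x '' (Finset.range p : Set ℕ)))
    (hφj0 : φ j0 = onWin 0 hpL (Equiv.addRight (r : ZMod p)))
    (R1 : a ^ p = m ^ (p - 1)) (R2 : m * a ^ s * m⁻¹ = a ^ (s + 1)) (R3 : m * x * m⁻¹ = x ^ 2)
    (R4 : x ^ 3 = (x * (a * x * a⁻¹)) ^ 2)
    (C1 : c * x * c⁻¹ = (a * x * a⁻¹) ^ eps b) (C2 : c * v * c⁻¹ = v')
    (C3 : c ^ r = j * (c ^ (L - p) * j0 * (c ^ (L - p))⁻¹)) :
    Function.Injective φ := by
  have hr1 : 1 ≤ r ∧ r ≤ 2 := by rcases hr with h | ⟨h, -⟩ <;> omega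
  set q := L - p with hq
  set e := eps b with he
  set E := e ^ q with hE
  have hEE : E * E = 1 := by rw [hE, ← mul_pow, eps_mul_self, one_pow]
  set xs := tr a x with hxs
  set H := Subgroup.closure (xs '' (Finset.range p : Set ℕ)) with hH
  obtain ⟨hC, haH⟩ := agl_core hγ hγ1 hs R1 R2 R3 R4 hm
  have hxH : ∀ i, i < p → xs i ∈ H := fun i hi => Subgroup.subset_closure ⟨i, by simpa using hi, rfl⟩
  have hφxs : ∀ i, i < p → φ (xs i) = X i := fun i hi => by
    rw [hxs, tr, map_mul, map_mul, map_inv, map_pow, hφa, hφx, aT_pow_conj hpL hi]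
  have hSL : ∀ i ∈ Finset.range p, i < L := fun i hi => by rw [Finset.mem_range] at hi; omega
  have heq : ∀ {g h : G}, g ∈ H → h ∈ H → φ g = φ h → g = h := fun hg hh e =>
    CRel.eq_of_map φ hSL hC (fun i hi => hφxs i (Finset.mem_range.1 hi)) hg hh e
  have hx0 : xs 0 = x := by simp [hxs, tr]
  have hx1 : xs 1 = a * x * a⁻¹ := by simp [hxs, tr]
  -- the cycle `v` generates with `x`
  have hV : ∀ i, i + 1 < p → xs i ∈ Subgroup.closure ({x, v} : Set G) := by
    intro i
    induction i with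
    | zero => intro _; rw [hx0]; exact Subgroup.subset_closure (by simp)
    | succ i ih =>
      intro hi
      have hle : Subgroup.closure (xs '' (Finset.range (p - 1) : Set ℕ)) ≤ H :=
        Subgroup.closure_mono (Set.image_mono (by
          intro z hz
          simp only [Finset.coe_range, Set.mem_Iio] at hz ⊢
          omega))
      have e1 : v * xs i * v⁻¹ = (xs (i + 1))⁻¹ := by
        refine heq (H.mul_mem (H.mul_mem (hle hv) (hxH i (by omega))) (H.inv_mem (hle hv)))
          (H.inv_mem (hxH _ (by omega))) ?_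
        rw [map_mul, map_mul, map_inv, map_inv, hφv, hφxs i (by omega), hφxs (i + 1) (by omega)]
        exact X_conj_swap _ (vT_pt hpL (by omega)) (vT_P hpL) (vT_Q hpL)
      rw [show xs (i + 1) = (v * xs i * v⁻¹)⁻¹ by rw [e1, inv_inv]]
      have hv0 : v ∈ Subgroup.closure ({x, v} : Set G) := Subgroup.subset_closure (by simp)
      exact inv_mem (mul_mem (mul_mem hv0 (ih (by omega))) (inv_mem hv0))
  have hstep : ∀ i, i + 1 < p → c * xs i * c⁻¹ = xs (i + 1) ^ e := by
    intro i hi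
    have hle : Subgroup.closure ({x, v} : Set G) ≤ H.comap (MulAut.conj c).toMonoidHom := by
      rw [Subgroup.closure_le]
      rintro _ (rfl | rfl)
      · simp only [SetLike.mem_coe, Subgroup.mem_comap, MulEquiv.coe_toMonoidHom, MulAut.conj_apply]
        rw [C1, ← hx1]
        exact H.zpow_mem (hxH 1 (by omega)) _
      · simp only [SetLike.mem_coe, Subgroup.mem_comap, MulEquiv.coe_toMonoidHom, MulAut.conj_apply]
        rw [C2]
        exact hv'
    refine heq (hle (hV i hi)) (H.zpow_mem (hxH _ hi) _) ?_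
    rw [map_mul, map_mul, map_inv, map_zpow, hφc, hφxs i (by omega), hφxs (i + 1) hi, cT_conj_X]
  have hiter : ∀ k i, i + k < p → c ^ k * xs i * (c ^ k)⁻¹ = xs (i + k) ^ (e ^ k) := by
    intro k
    induction k with
    | zero => intro i _; simp
    | succ k ih =>
      intro i hi
      rw [show c ^ (k + 1) * xs i * (c ^ (k + 1))⁻¹ = c * (c ^ k * xs i * (c ^ k)⁻¹) * c⁻¹ by
          rw [pow_succ']; group,
        ih i (by omega), ← conj_zpow, hstep (i + k) (by omega), ← zpow_mul, pow_succ', ← Nat.add_assoc]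
  -- the whole family
  let y : ℕ → G := fun i => if i < p then xs i else (c ^ q * xs (i - q) * (c ^ q)⁻¹) ^ E
  have hylo : ∀ i, i < p → y i = xs i := fun i hi => if_pos hi
  have hyhi : ∀ i, q ≤ i → i < L → y i = (c ^ q * xs (i - q) * (c ^ q)⁻¹) ^ E := by
    intro i hqi hiL
    by_cases hip : i < p
    · rw [hylo i hip, hiter q (i - q) (by omega), ← zpow_mul, hEE, zpow_one,
        Nat.sub_add_cancel hqi]
    · exact if_neg hip
  have hyq : ∀ k, k < p → c ^ q * xs k * (c ^ q)⁻¹ = y (q + k) ^ E := by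
    intro k hk
    rw [hyhi (q + k) (by omega) (by omega), ← zpow_mul, hEE, zpow_one, Nat.add_sub_cancel_left]
  have hφy : ∀ i, i < L → φ (y i) = X i := by
    intro i hiL
    by_cases hip : i < p
    · rw [hylo i hip, hφxs i hip]
    · rw [hyhi i (by omega) hiL, map_zpow, map_mul, map_mul, map_inv, map_pow, hφc, hφxs _ (by omega),
        cT_pow_conj_X, ← zpow_mul, ← hE, hEE, zpow_one, Nat.sub_add_cancel (by omega)]
  set N := Subgroup.closure (y '' (Finset.range L : Set ℕ)) with hN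
  have hyN : ∀ i, i < L → y i ∈ N := fun i hi => Subgroup.subset_closure ⟨i, by simpa using hi, rfl⟩
  have hHN : H ≤ N := by
    rw [hH, Subgroup.closure_le]
    rintro _ ⟨i, hi, rfl⟩
    simp only [Finset.coe_range, Set.mem_Iio] at hi
    rw [SetLike.mem_coe, ← hylo i hi]
    exact hyN i (by omega)
  have hqN : ∀ g ∈ H, c ^ q * g * (c ^ q)⁻¹ ∈ N := by
    intro g hg
    have : H ≤ N.comap (MulAut.conj (c ^ q)).toMonoidHom := by
      rw [hH, Subgroup.closure_le]
      rintro _ ⟨k, hk, rfl⟩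
      simp only [Finset.coe_range, Set.mem_Iio] at hk
      simp only [SetLike.mem_coe, Subgroup.mem_comap, MulEquiv.coe_toMonoidHom, MulAut.conj_apply]
      rw [hyq k hk]
      exact N.zpow_mem (hyN _ (by omega)) _
    exact this hg
  -- the gluing element
  set j' := c ^ q * j0 * (c ^ q)⁻¹ with hj'
  have hφj' : φ j' = wT hpL b r := by
    rw [hj', map_mul, map_mul, map_inv, map_pow, hφc, hφj0]
    rfl
  have hfixlow : ∀ i, i < q → j' * y i * j'⁻¹ = y i := by
    intro i hi
    have hc : c ^ r * y i * (c ^ r)⁻¹ = xs (i + r) ^ (e ^ r) := by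
      rw [hylo i (by omega), hiter r i (by omega)]
    have e1 : j' * y i * j'⁻¹ = j⁻¹ * (xs (i + r) ^ (e ^ r)) * j := by
      rw [← hc, C3]
      group
    refine heq (e1 ▸ H.mul_mem (H.mul_mem (H.inv_mem hj) (H.zpow_mem (hxH _ (by omega)) _)) hj) ?_ ?_
    · rw [hylo i (by omega)]
      exact hxH i (by omega)
    · rw [map_mul, map_mul, map_inv, hφj', hφy i (by omega)]
      exact X_conj _ (wT_low hpL b r hi) (wT_inr hpL b r 0) (wT_inr hpL b r 1)
  have hshift : ∀ k, k < p → j' * y (q + k) * j'⁻¹ = y (q + (k + r) % p) := by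
    intro k hk
    have hlt : (k + r) % p < p := Nat.mod_lt _ (by omega)
    have e1 : j0 * xs k * j0⁻¹ = xs ((k + r) % p) := by
      refine heq (H.mul_mem (H.mul_mem hj0 (hxH k hk)) (H.inv_mem hj0)) (hxH _ hlt) ?_
      rw [map_mul, map_mul, map_inv, hφj0, hφxs k hk, hφxs _ hlt, onWin_conj_X hpL _ hk,
        Equiv.coe_addRight]
      simp only [← Nat.cast_add, ZMod.val_natCast]
    rw [hyhi (q + k) (by omega) (by omega), hyhi (q + (k + r) % p) (by omega) (by omega),
      Nat.add_sub_cancel_left, Nat.add_sub_cancel_left, ← conj_zpow, ← e1, hj']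
    congr 1
    group
  have hlow : ∀ i k, i < p → k < p → i ≠ k → (y i * y k) ^ 2 = 1 := fun i k hi hk hne => by
    rw [hylo i hi, hylo k hk]
    exact hC.pair i (Finset.mem_range.2 hi) k (Finset.mem_range.2 hk) hne
  have hmix : ∀ i l, i < q → p ≤ l → l < L → (y i * y l) ^ 2 = 1 := by
    intro i l hi hpl hlL
    have key : ∀ n : ℕ, (y i * y (q + (n * r) % p)) ^ 2 = 1 := by
      intro n
      induction n with
      | zero =>
        rw [Nat.zero_mul, Nat.zero_mod, Nat.add_zero]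
        exact hlow i q (by omega) (by omega) (by omega)
      | succ n ih =>
        have h2 := hshift ((n * r) % p) (Nat.mod_lt _ (by omega))
        rw [Nat.mod_add_mod, ← Nat.succ_mul] at h2
        rw [← h2, ← hfixlow i hi, show j' * y i * j'⁻¹ * (j' * y (q + n * r % p) * j'⁻¹) =
          j' * (y i * y (q + n * r % p)) * j'⁻¹ by group, conj_pow', ih, mul_one, mul_inv_cancel]
    have hr0 : (r : ZMod p) ≠ 0 := by
      rw [Ne, ZMod.natCast_eq_zero_iff]
      exact fun h => absurd (Nat.le_of_dvd (by omega) h) (by omega)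
    have := key (((l - q : ℕ) : ZMod p) / r).val
    rw [show ((((l - q : ℕ) : ZMod p) / r).val * r) % p = l - q by
      rw [← ZMod.val_natCast, Nat.cast_mul, ZMod.natCast_rightInverse, div_mul_cancel₀ _ hr0,
        ZMod.val_natCast, Nat.mod_eq_of_lt (by omega)], Nat.add_sub_cancel' (by omega)] at this
    exact this
  have hCy : CRel y (Finset.range L) := by
    refine ⟨fun i hi => ?_, fun i hi k hk hne => ?_⟩
    · rw [Finset.mem_range] at hi
      by_cases hip : i < p
      · rw [hylo i hip]; exact hC.cube i (Finset.mem_range.2 hip)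
      · rw [hyhi i (by omega) hi, ← zpow_natCast, ← zpow_mul, mul_comm E, zpow_mul, zpow_natCast,
          conj_pow', hC.cube _ (Finset.mem_range.2 (by omega)), mul_one, mul_inv_cancel, one_zpow]
    · rw [Finset.mem_range] at hi hk
      by_cases h1 : i < p ∧ k < p
      · exact hlow i k h1.1 h1.2 hne
      by_cases h2 : q ≤ i ∧ q ≤ k
      · rw [hyhi i h2.1 hi, hyhi k h2.2 hk]
        refine zpow_pair ?_ hEE
        rw [show c ^ q * xs (i - q) * (c ^ q)⁻¹ * (c ^ q * xs (k - q) * (c ^ q)⁻¹) =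
          c ^ q * (xs (i - q) * xs (k - q)) * (c ^ q)⁻¹ by group, conj_pow',
          hC.pair _ (Finset.mem_range.2 (by omega)) _ (Finset.mem_range.2 (by omega)) (by omega),
          mul_one, mul_inv_cancel]
      by_cases hiq : i < q
      · exact hmix i k hiq (by omega) hk
      · exact pair_comm (hmix k i (by omega) (by omega) hi)
  have hNinj : ∀ g ∈ N, φ g = 1 → g = 1 := CRel.injOn φ (fun i hi => Finset.mem_range.1 hi) hCy
    (fun i hi => hφy i (Finset.mem_range.1 hi))
  have hxN : x ∈ N := hx0 ▸ hHN (hxH 0 (by omega))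
  have haN : a ∈ N := hHN haH
  have hcr : c ^ r ∈ N := C3 ▸ N.mul_mem (hHN hj) (hqN j0 hj0)
  rw [injective_iff_map_eq_one]
  intro g hg
  rcases hr with rfl | ⟨rfl, hsgn⟩
  · rw [pow_one] at hcr
    have hle : (⊤ : Subgroup G) ≤ N := by
      rw [← hgen, Subgroup.closure_le]
      rintro _ (rfl | rfl | rfl)
      exacts [haN, hcr, hxN]
    exact hNinj g (hle (Subgroup.mem_top g)) hg
  · have hcN : ∀ g ∈ N, c * g * c⁻¹ ∈ N := by
      intro g hg
      have : N ≤ N.comap (MulAut.conj c).toMonoidHom := by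
        rw [hN, Subgroup.closure_le]
        rintro _ ⟨i, hi, rfl⟩
        simp only [Finset.coe_range, Set.mem_Iio] at hi
        simp only [SetLike.mem_coe, Subgroup.mem_comap, MulEquiv.coe_toMonoidHom, MulAut.conj_apply,
          ← hN]
        by_cases hip : i + 1 < p
        · rw [hylo i (by omega), hstep i hip]
          exact N.zpow_mem (hHN (hxH _ hip)) _
        · rw [hyhi i (by omega) hi, ← conj_zpow]
          refine N.zpow_mem ?_ _
          by_cases hk : i - q + 1 < p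
          · rw [show c * (c ^ q * xs (i - q) * (c ^ q)⁻¹) * c⁻¹ =
              c ^ q * (c * xs (i - q) * c⁻¹) * (c ^ q)⁻¹ by group, hstep _ hk]
            exact hqN _ (H.zpow_mem (hxH _ hk) _)
          · have hk' : i - q = p - 2 + 1 := by omega
            have e2 : xs (i - q) = (c * xs (p - 2) * c⁻¹) ^ e := by
              rw [hstep (p - 2) (by omega), ← zpow_mul, eps_mul_self, zpow_one, hk']
            rw [e2, ← conj_zpow, ← conj_zpow]
            refine N.zpow_mem ?_ _
            rw [show c * (c ^ q * (c * xs (p - 2) * c⁻¹) * (c ^ q)⁻¹) * c⁻¹ =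
              c ^ 2 * (c ^ q * xs (p - 2) * (c ^ q)⁻¹) * (c ^ 2)⁻¹ by group]
            exact N.mul_mem (N.mul_mem hcr (hqN _ (hxH _ (by omega)))) (N.inv_mem hcr)
      exact this hg
    have hcN' : ∀ g ∈ N, c⁻¹ * g * c ∈ N := by
      intro g hg
      rw [show c⁻¹ * g * c = (c ^ 2)⁻¹ * (c * g * c⁻¹) * c ^ 2 by group]
      exact N.mul_mem (N.mul_mem (N.inv_mem hcr) (hcN g hg)) hcr
    have hall : g ∈ N ∨ c⁻¹ * g ∈ N := by
      have hg' : g ∈ Subgroup.closure ({a, c, x} : Set G) := hgen ▸ Subgroup.mem_top g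
      clear hg
      induction hg' using Subgroup.closure_induction_left with
      | one => exact Or.inl N.one_mem
      | mul_left z hz g' _ ih =>
        rcases hz with rfl | rfl | rfl
        · rcases ih with h | h
          · exact Or.inl (N.mul_mem haN h)
          · refine Or.inr ?_
            rw [show c⁻¹ * (z * g') = c⁻¹ * z * c * (c⁻¹ * g') by group]
            exact N.mul_mem (hcN' z haN) h
        · rcases ih with h | h
          · exact Or.inr (by rwa [inv_mul_cancel_left])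
          · refine Or.inl ?_
            rw [show z * g' = z ^ 2 * (z⁻¹ * g') by group]
            exact N.mul_mem hcr h
        · rcases ih with h | h
          · exact Or.inl (N.mul_mem hxN h)
          · refine Or.inr ?_
            rw [show c⁻¹ * (z * g') = c⁻¹ * z * c * (c⁻¹ * g') by group]
            exact N.mul_mem (hcN' z hxN) h
      | inv_mul_cancel z hz g' _ ih =>
        rcases hz with rfl | rfl | rfl
        · rcases ih with h | h
          · exact Or.inl (N.mul_mem (N.inv_mem haN) h)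
          · refine Or.inr ?_
            rw [show c⁻¹ * (z⁻¹ * g') = c⁻¹ * z⁻¹ * c * (c⁻¹ * g') by group]
            exact N.mul_mem (hcN' _ (N.inv_mem haN)) h
        · rcases ih with h | h
          · refine Or.inr ?_
            rw [show z⁻¹ * (z⁻¹ * g') = (z ^ 2)⁻¹ * g' by group]
            exact N.mul_mem (N.inv_mem hcr) h
          · exact Or.inl h
        · rcases ih with h | h
          · exact Or.inl (N.mul_mem (N.inv_mem hxN) h)
          · refine Or.inr ?_
            rw [show c⁻¹ * (z⁻¹ * g') = c⁻¹ * z⁻¹ * c * (c⁻¹ * g') by group]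
            exact N.mul_mem (hcN' _ (N.inv_mem hxN)) h
    rcases hall with h | h
    · exact hNinj g h hg
    · exfalso
      have hs1 : N ≤ ((Perm.sign : Perm (Pt L) →* ℤˣ).comp φ).ker := by
        rw [hN, Subgroup.closure_le]
        rintro _ ⟨i, hi, rfl⟩
        simp only [Finset.coe_range, Set.mem_Iio] at hi
        simp [hφy i hi, sign_X]
      have h1 := hs1 h
      simp only [MonoidHom.mem_ker, MonoidHom.comp_apply, map_mul, map_inv, hg, hφc, map_one, mul_one] at h1
      rw [hsgn] at h1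
      exact absurd h1 (by decide)

end CfsgLib.SymPres
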